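import Cfsg.Agent.Lib.CharApps.SLDefining.Monomial
import Cfsg.Agent.Lib.Blocks.NormalPSubgroup

/-!
# Radical `p`-subgroups of `SL_n` in defining characteristic
-/

set_option autoImplicit false
set_option linter.unusedSectionVars false
set_option linter.style.haveILetI false

namespace CfsgLib.SLDefining

open Matrix Finset
open CfsgLib.StSL (tv tv_mulVec sl_ext mul_mulVec')

universe u

variable {K : Type u} [Field K] [Fintype K] {n : ℕ} {p : ℕ} [Fact p.Prime] [CharP K p]

local notation "SLn" => SpecialLinearGroup (Fin n) K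
local notation "Vn" => (Fin n → K)

theorem val_pow (g : SLn) (m : ℕ) : (g ^ m).1 = g.1 ^ m := by
  induction m with
  | zero => rw [pow_zero, pow_zero, val_one]
  | succ m ih => rw [pow_succ, pow_succ, val_mul, ih]

/-- The span of the displacements of a subspace. -/
def brk (D : Subgroup SLn) (W : Submodule K Vn) : Submodule K Vn :=
  Submodule.span K {x | ∃ d ∈ D, ∃ w ∈ W, x = d.1 *ᵥ w - w}

/-- The chain of a subgroup. -/
def chn (D : Subgroup SLn) : ℕ → Submodule K Vn
  | 0 => ⊤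
  | r + 1 => brk D (chn D r)

theorem brk_mono (D : Subgroup SLn) {W W' : Submodule K Vn} (h : W ≤ W') : brk D W ≤ brk D W' :=
  Submodule.span_mono fun _ ⟨d, hd, w, hw, e⟩ => ⟨d, hd, w, h hw, e⟩

theorem chn_succ_le (D : Subgroup SLn) : ∀ r, chn D (r + 1) ≤ chn D r := by
  intro r
  induction r with
  | zero => exact le_top
  | succ r ih => exact brk_mono D ih

theorem chn_le (D : Subgroup SLn) {r s : ℕ} (h : r ≤ s) : chn D s ≤ chn D r := by
  induction h with
  | refl => exact le_rfl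
  | step _ ih => exact (chn_succ_le D _).trans ih

theorem sub_mem_chn {D : Subgroup SLn} {d : SLn} (hd : d ∈ D) {r : ℕ} {w : Vn}
    (hw : w ∈ chn D r) : d.1 *ᵥ w - w ∈ chn D (r + 1) :=
  Submodule.subset_span ⟨d, hd, w, hw, rfl⟩

theorem inv_mulVec (g : SLn) (w : Vn) : g⁻¹.1 *ᵥ (g.1 *ᵥ w) = w := by
  rw [← mul_mulVec', inv_mul_cancel, val_one, Matrix.one_mulVec]

theorem mulVec_inv (g : SLn) (w : Vn) : g.1 *ᵥ (g⁻¹.1 *ᵥ w) = w := by
  rw [← mul_mulVec', mul_inv_cancel, val_one, Matrix.one_mulVec]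

theorem mulVec_mem_chn {D : Subgroup SLn} {g : SLn}
    (hg : g ∈ Subgroup.normalizer (D : Set SLn)) :
    ∀ r, ∀ w ∈ chn D r, g.1 *ᵥ w ∈ chn D r := by
  intro r
  induction r with
  | zero => exact fun _ _ => Submodule.mem_top
  | succ r ih =>
    intro w hw
    induction hw using Submodule.span_induction with
    | mem x hx =>
      obtain ⟨d, hd, w, hw, rfl⟩ := hx
      have := sub_mem_chn ((Subgroup.mem_normalizer_iff.1 hg d).1 hd) (ih w hw)
      rwa [mul_mulVec', mul_mulVec', inv_mulVec, ← Matrix.mulVec_sub] at this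
    | zero => rw [Matrix.mulVec_zero]; exact zero_mem _
    | add x y _ _ hx hy => rw [Matrix.mulVec_add]; exact add_mem hx hy
    | smul c x _ hx => rw [Matrix.mulVec_smul]; exact Submodule.smul_mem _ _ hx

include p in
theorem brk_lt {D : Subgroup SLn} (hD : IsPGroup p D) {r : ℕ} (hne : chn D r ≠ ⊥) :
    chn D (r + 1) < chn D r := by
  refine (chn_succ_le D r).lt_of_ne fun e => ?_
  let W := chn D r
  haveI : Nontrivial W := Submodule.nontrivial_iff_ne_bot.2 hne
  let σ : Representation K D W :=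
    { toFun := fun d => (Matrix.toLin' d.1.1).restrict fun w hw => by
        rw [Matrix.toLin'_apply]; exact mulVec_mem_chn (Subgroup.le_normalizer d.2) r w hw
      map_one' := LinearMap.ext fun w => Subtype.ext (by simp)
      map_mul' := fun a b => LinearMap.ext fun w => Subtype.ext (by
        simp only [LinearMap.restrict_coe_apply, Matrix.toLin'_apply, Module.End.mul_apply,
          Subgroup.coe_mul, mul_mulVec']) }
  obtain ⟨φ, hφ0, hφ⟩ := Blocks.exists_fixed_ne_zero (k := K) hD σ.dual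
  refine hφ0 (LinearMap.ext fun w => ?_)
  have hw : (w : Vn) ∈ brk D (chn D r) := e.symm.le w.2
  suffices ∀ x (hx : x ∈ brk D (chn D r)), φ ⟨x, (chn_succ_le D r) hx⟩ = 0 from this w hw
  intro x hx
  induction hx using Submodule.span_induction with
  | mem x hx =>
    obtain ⟨d, hd, w, hw, rfl⟩ := hx
    have h1 := LinearMap.congr_fun (hφ ⟨d, hd⟩⁻¹) ⟨w, hw⟩
    rw [Representation.dual_apply, inv_inv, Module.Dual.transpose_apply, LinearMap.comp_apply] at h1
    exact (map_sub φ (σ ⟨d, hd⟩ ⟨w, hw⟩) ⟨w, hw⟩).trans (by rw [h1, sub_self])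
  | zero => exact map_zero φ
  | add x y hx hy h1 h2 =>
    exact (map_add φ ⟨x, chn_succ_le D r hx⟩ ⟨y, chn_succ_le D r hy⟩).trans (by rw [h1, h2, add_zero])
  | smul c x hx h1 =>
    exact (map_smul φ c ⟨x, chn_succ_le D r hx⟩).trans (by rw [h1, smul_zero])

include p in
theorem exists_chn_eq_bot {D : Subgroup SLn} (hD : IsPGroup p D) : ∃ R, chn D R = ⊥ := by
  have key : ∀ r, chn D r = ⊥ ∨ Module.finrank K (chn D r) + r ≤ n := by
    intro r
    induction r with
    | zero => right; rw [show chn D 0 = ⊤ from rfl, finrank_top, Module.finrank_fin_fun]; simp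
    | succ r ih =>
      by_cases h : chn D r = ⊥
      · left; exact le_bot_iff.1 ((chn_succ_le D r).trans h.le)
      · right
        have := Submodule.finrank_lt_finrank_of_lt (brk_lt hD h)
        have := ih.resolve_left h
        omega
  refine ⟨n + 1, (key (n + 1)).resolve_right fun h => ?_⟩
  omega

/-- The stabiliser of the chain, trivial on its layers. -/
def UD (D : Subgroup SLn) : Subgroup SLn :=
  subgroupOfClosed {g | ∀ r, ∀ w ∈ chn D r, g.1 *ᵥ w - w ∈ chn D (r + 1)}
    (fun r w _ => by rw [val_one, Matrix.one_mulVec, sub_self]; exact zero_mem _)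
    fun a ha b hb r w hw => by
      have h1 := hb r w hw
      have h2 := chn_succ_le D (r + 1) (ha (r + 1) _ h1)
      rw [Matrix.mulVec_sub] at h2
      have := add_mem (add_mem h2 h1) (ha r w hw)
      rw [mul_mulVec']
      convert this using 1
      abel

theorem mem_UD {D : Subgroup SLn} {g : SLn} :
    g ∈ UD D ↔ ∀ r, ∀ w ∈ chn D r, g.1 *ᵥ w - w ∈ chn D (r + 1) := Iff.rfl

theorem le_UD (D : Subgroup SLn) : D ≤ UD D := fun _ hd _ _ hw => sub_mem_chn hd hw

theorem conj_mem_UD {D : Subgroup SLn} {g u : SLn}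
    (hg : g ∈ Subgroup.normalizer (D : Set SLn)) (hu : u ∈ UD D) : g * u * g⁻¹ ∈ UD D := by
  intro r w hw
  have h1 := hu r _ (mulVec_mem_chn ((Subgroup.normalizer (D : Set SLn)).inv_mem hg) r w hw)
  have h2 := mulVec_mem_chn hg (r + 1) _ h1
  rw [Matrix.mulVec_sub, mulVec_inv] at h2
  rwa [mul_mulVec', mul_mulVec']

include p in
theorem isPGroup_UD [Nonempty (Fin n)] {D : Subgroup SLn} (hD : IsPGroup p D) :
    IsPGroup p (UD D) := by
  obtain ⟨R, hR⟩ := exists_chn_eq_bot hD
  rintro ⟨g, hg⟩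
  refine ⟨R, Subtype.ext ?_⟩
  have key : ∀ r (w : Vn), (g.1 - 1) ^ r *ᵥ w ∈ chn D r := by
    intro r
    induction r with
    | zero => exact fun _ => Submodule.mem_top
    | succ r ih =>
      intro w
      rw [pow_succ', ← Matrix.mulVec_mulVec, Matrix.sub_mulVec, Matrix.one_mulVec]
      exact hg r _ (ih w)
  have h0 : (g.1 - 1) ^ R = 0 := Matrix.ext_iff_mulVec.2 fun w => by
    have := key R w
    rw [hR, Submodule.mem_bot] at this
    rw [this, Matrix.zero_mulVec]
  have h1 : (g.1 - 1) ^ p ^ R = 0 :=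
    pow_eq_zero_of_le (Nat.lt_pow_self (Fact.out : p.Prime).one_lt).le h0
  rw [sub_pow_char_pow_of_commute (p := p) (h := Commute.one_right _), one_pow, sub_eq_zero] at h1
  refine Subtype.ext ?_
  show ((g ^ p ^ R : SLn)).1 = _
  rw [val_pow, h1]
  rfl

/-- A radical subgroup is the stabiliser of its chain. -/
theorem eq_UD [Nonempty (Fin n)] {D : Subgroup SLn} (hD : IsPGroup p D)
    (hrad : ∀ Q : Subgroup SLn, IsPGroup p Q → Q ≤ Subgroup.normalizer (D : Set SLn) →
      (∀ g ∈ Subgroup.normalizer (D : Set SLn), ∀ q ∈ Q, g * q * g⁻¹ ∈ Q) → Q ≤ D) :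
    D = UD D := by
  refine le_antisymm (le_UD D) fun x hx => ?_
  have hle : UD D ⊓ Subgroup.normalizer (D : Set SLn) ≤ D :=
    hrad _ ((isPGroup_UD hD).to_le inf_le_left) inf_le_right fun g hg q hq =>
      Subgroup.mem_inf.2 ⟨conj_mem_UD hg (Subgroup.mem_inf.1 hq).1,
        (Subgroup.normalizer (D : Set SLn)).mul_mem ((Subgroup.normalizer (D : Set SLn)).mul_mem hg
          (Subgroup.mem_inf.1 hq).2) ((Subgroup.normalizer (D : Set SLn)).inv_mem hg)⟩
  haveI : Group.IsNilpotent (UD D) := (isPGroup_UD hD).isNilpotent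
  by_contra hxD
  have hlt : D.subgroupOf (UD D) < ⊤ := lt_top_iff_ne_top.2 fun e =>
    hxD (Subgroup.mem_subgroupOf.1 (e ▸ Subgroup.mem_top (⟨x, hx⟩ : UD D)))
  obtain ⟨y, hy, hy'⟩ := SetLike.exists_of_lt (Group.normalizerCondition_of_isNilpotent _ hlt)
  refine hy' (Subgroup.mem_subgroupOf.2 (hle ⟨y.2, Subgroup.mem_normalizer_iff.2 fun d => ?_⟩))
  rw [Subgroup.mem_normalizer_iff] at hy
  constructor
  · intro hd
    exact Subgroup.mem_subgroupOf.1 ((hy ⟨d, le_UD D hd⟩).1 (Subgroup.mem_subgroupOf.2 hd))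
  · intro hd
    have h1 : d ∈ UD D := by
      have := (UD D).mul_mem ((UD D).mul_mem ((UD D).inv_mem y.2) (le_UD D hd)) y.2
      simpa [mul_assoc] using this
    exact Subgroup.mem_subgroupOf.1 ((hy ⟨d, h1⟩).2 (Subgroup.mem_subgroupOf.2 hd))

/-- **The centraliser of a nontrivial radical subgroup has its `p`-regular elements central.** -/
theorem central_of_radical [Nonempty (Fin n)] {D : Subgroup SLn} (hD : IsPGroup p D) (hD1 : D ≠ ⊥)
    (hrad : ∀ Q : Subgroup SLn, IsPGroup p Q → Q ≤ Subgroup.normalizer (D : Set SLn) →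
      (∀ g ∈ Subgroup.normalizer (D : Set SLn), ∀ q ∈ Q, g * q * g⁻¹ ∈ Q) → Q ≤ D)
    {g : SLn} (hg : ∀ d ∈ D, g * d = d * g) (hreg : ¬ p ∣ orderOf g) :
    g ∈ Subgroup.center SLn := by
  classical
  obtain ⟨R0, hR0⟩ := exists_chn_eq_bot hD
  have h1 : chn D 1 ≠ ⊥ := fun e => hD1 ((Subgroup.eq_bot_iff_forall _).2 fun d hd =>
    sl_ext fun w => by
      have := sub_mem_chn hd (r := 0) (w := w) Submodule.mem_top
      rw [e, Submodule.mem_bot, sub_eq_zero] at this
      rw [this, val_one, Matrix.one_mulVec])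
  obtain ⟨R, hR, hR'⟩ : ∃ R, chn D R ≠ ⊥ ∧ chn D (R + 1) = ⊥ := by
    have hex : ∃ R, chn D (R + 1) = ⊥ := ⟨R0, le_bot_iff.1 ((chn_succ_le D R0).trans hR0.le)⟩
    refine ⟨Nat.find hex, ?_, Nat.find_spec hex⟩
    rcases Nat.eq_zero_or_pos (Nat.find hex) with h0 | h0
    · have h3 := Nat.find_spec hex
      rw [h0] at h3
      exact absurd h3 h1
    · have := Nat.find_min hex (Nat.sub_lt h0 Nat.one_pos)
      rwa [Nat.sub_add_cancel h0] at this
  have hR1 : 1 ≤ R := Nat.one_le_iff_ne_zero.2 fun e => h1 (by rw [e] at hR'; exact hR')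
  have htop : chn D 1 ≠ ⊤ := fun e => by
    have h0 : chn D 0 ≠ ⊥ := fun h => h1 (le_bot_iff.1 ((chn_succ_le D 0).trans h.le))
    exact (brk_lt hD h0).ne (e.trans rfl)
  -- commuting with a transvection
  have key : ∀ a ∈ chn D 1, ∀ φ : Vn,
      (∀ w ∈ chn D 1, φ ⬝ᵥ w = 0) ∧ a ∈ chn D 1 ∨ (∀ w ∈ chn D R, φ ⬝ᵥ w = 0) ∧ a ∈ chn D R →
      ∀ v, (φ ⬝ᵥ v) • (g.1 *ᵥ a) = (φ ⬝ᵥ (g.1 *ᵥ v)) • a := by
    intro a ha φ hcase v
    have hφa : φ ⬝ᵥ a = 0 := by
      rcases hcase with ⟨h, h'⟩ | ⟨h, h'⟩ <;> exact h a h'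
    let τm : Matrix (Fin n) (Fin n) K := 1 + Matrix.vecMulVec a φ
    have hτv : ∀ w, τm *ᵥ w = w + (φ ⬝ᵥ w) • a := fun w => by
      rw [Matrix.add_mulVec, Matrix.one_mulVec, Matrix.vecMulVec_mulVec, op_smul_eq_smul]
    have hdet : τm.det = 1 := by
      show (1 + Matrix.vecMulVec a φ).det = 1
      rw [Matrix.vecMulVec_eq Unit, Matrix.det_one_add_replicateCol_mul_replicateRow, hφa, add_zero]
    let τ : SLn := ⟨τm, hdet⟩
    have hτU : τ ∈ UD D := by
      intro r w hw
      show τm *ᵥ w - w ∈ _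
      rw [hτv, add_sub_cancel_left]
      rcases hcase with ⟨h, h'⟩ | ⟨h, h'⟩
      · rcases Nat.eq_zero_or_pos r with rfl | hr
        · exact Submodule.smul_mem _ _ h'
        · rw [h w (chn_le D hr hw), zero_smul]; exact zero_mem _
      · rcases lt_or_ge r R with hr | hr
        · exact Submodule.smul_mem _ _ (chn_le D hr h')
        · rw [h w (chn_le D hr hw), zero_smul]; exact zero_mem _
    rw [← eq_UD hD hrad] at hτU
    have e := congrArg (fun x : SLn => x.1 *ᵥ v) (hg τ hτU)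
    simp only [mul_mulVec'] at e
    rw [show τ.1 *ᵥ v = v + (φ ⬝ᵥ v) • a from hτv v, show τ.1 *ᵥ (g.1 *ᵥ v) = _ from hτv _,
      Matrix.mulVec_add, Matrix.mulVec_smul] at e
    exact add_left_cancel e
  have hdual : ∀ W : Submodule K Vn, ∀ x, x ∉ W →
      ∃ φ : Vn, (∀ w ∈ W, φ ⬝ᵥ w = 0) ∧ φ ⬝ᵥ x = 1 := by
    intro W x hx
    obtain ⟨f, hfx, hfW⟩ := Submodule.exists_dual_map_eq_bot_of_notMem hx inferInstance
    obtain ⟨φ, rfl⟩ := (dotProductEquiv K (Fin n)).surjective f
    have hfx' : φ ⬝ᵥ x ≠ 0 := hfx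
    refine ⟨(φ ⬝ᵥ x)⁻¹ • φ, fun w hw => ?_, ?_⟩
    · have : φ ⬝ᵥ w ∈ W.map (dotProductEquiv K (Fin n) φ) := ⟨w, hw, rfl⟩
      rw [hfW, Submodule.mem_bot] at this
      rw [smul_dotProduct, this, smul_zero]
    · rw [smul_dotProduct, smul_eq_mul, inv_mul_cancel₀ hfx']
  obtain ⟨v0, -, hv0⟩ := SetLike.exists_of_lt (lt_top_iff_ne_top.2 htop)
  obtain ⟨φ0, hφ0, hφ01⟩ := hdual _ v0 hv0
  obtain ⟨a0, ha0, ha0n⟩ := Submodule.exists_mem_ne_zero_of_ne_bot hR
  set lam : K := φ0 ⬝ᵥ (g.1 *ᵥ v0) with hlam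
  have hscal : ∀ a ∈ chn D 1, g.1 *ᵥ a = lam • a := fun a ha => by
    have := key a ha φ0 (Or.inl ⟨hφ0, ha⟩) v0
    rwa [hφ01, one_smul] at this
  have hmove : ∀ v, g.1 *ᵥ v - lam • v ∈ chn D R := by
    intro v
    by_contra hne
    obtain ⟨φ, hφ, hφ1⟩ := hdual _ _ hne
    have := key a0 (chn_le D hR1 ha0) φ (Or.inr ⟨hφ, ha0⟩) v
    rw [hscal a0 (chn_le D hR1 ha0), smul_smul] at this
    have e := smul_left_injective K ha0n this
    rw [dotProduct_sub, dotProduct_smul, smul_eq_mul, ← e, mul_comm, sub_self] at hφ1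
    exact zero_ne_one hφ1
  set N : Matrix (Fin n) (Fin n) K := g.1 - lam • 1 with hN
  have hN2 : N ^ 2 = 0 := Matrix.ext_iff_mulVec.2 fun v => by
    rw [pow_two, ← Matrix.mulVec_mulVec, Matrix.zero_mulVec]
    have h' : N *ᵥ v ∈ chn D R := by
      rw [hN, Matrix.sub_mulVec, Matrix.smul_mulVec, Matrix.one_mulVec]
      exact hmove v
    rw [hN, Matrix.sub_mulVec, Matrix.smul_mulVec, Matrix.one_mulVec,
      hscal _ (chn_le D hR1 h'), sub_self]
  haveI : CharP (Matrix (Fin n) (Fin n) K) p := inferInstance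
  have hp : g.1 ^ p = (lam ^ p) • (1 : Matrix (Fin n) (Fin n) K) := by
    have h0 : N ^ p = 0 := pow_eq_zero_of_le (Fact.out : p.Prime).two_le hN2
    have hc : Commute g.1 (lam • (1 : Matrix (Fin n) (Fin n) K)) :=
      (Commute.one_right _).smul_right _
    rw [hN, sub_pow_char_of_commute (p := p) (h := hc), smul_pow, one_pow, sub_eq_zero] at h0
    exact h0
  obtain ⟨j, hgp⟩ : ∃ j : ℕ, g = (g ^ p) ^ j := by
    rcases Nat.lt_or_ge 1 (orderOf g) with h | h
    · obtain ⟨j, -, hj⟩ := Nat.exists_mul_mod_eq_one_of_coprime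
        ((Fact.out : p.Prime).coprime_iff_not_dvd.2 hreg) h
      exact ⟨j, by rw [← pow_mul, ← pow_mod_orderOf, hj, pow_one]⟩
    · refine ⟨1, ?_⟩
      rw [orderOf_eq_one_iff.1 (le_antisymm h (orderOf_pos g))]
      simp
  refine Subgroup.mem_center_iff.2 fun x => ?_
  have hcoe : g.1 = ((lam ^ p) • (1 : Matrix (Fin n) (Fin n) K)) ^ j := by
    conv_lhs => rw [hgp]
    rw [val_pow, val_pow, hp]
  refine Subtype.ext ?_
  rw [val_mul, val_mul, hcoe, smul_pow, one_pow, Matrix.mul_smul, Matrix.smul_mul, mul_one, one_mul]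

/-- Normalisers of the upper unitriangular matrices are upper triangular. -/
theorem mem_Bo_of_normalizer {g : SLn} (hg : g ∈ Subgroup.normalizer (Uu K n : Set SLn)) :
    g ∈ Bo K n := by
  classical
  have hE : ∀ r, ∀ w : Vn,
      w ∈ chn (Uu K n) r ↔ ∀ a : Fin n, n ≤ (a : ℕ) + r → w a = 0 := by
    intro r
    induction r with
    | zero => exact fun w => ⟨fun _ a ha => absurd a.isLt (by omega), fun _ => Submodule.mem_top⟩
    | succ r ih =>
      intro w
      constructor
      · intro hw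
        induction hw using Submodule.span_induction with
        | mem x hx =>
          obtain ⟨d, hd, w, hw, rfl⟩ := hx
          intro a ha
          rw [Pi.sub_apply, Matrix.mulVec, dotProduct, Finset.sum_eq_single a, hd a a le_rfl,
            Matrix.one_apply_eq, one_mul, sub_self]
          · intro b _ hb
            rcases lt_or_gt_of_ne hb with hlt | hgt
            · rw [hd a b hlt.le, Matrix.one_apply_ne hb.symm, zero_mul]
            · rw [(ih w).1 hw b (by have := Fin.lt_def.1 hgt; omega), mul_zero]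
          · simp
        | zero => intro a _; rfl
        | add x y _ _ hx hy => intro a ha; rw [Pi.add_apply, hx a ha, hy a ha, add_zero]
        | smul c x _ hx => intro a ha; rw [Pi.smul_apply, hx a ha, smul_zero]
      · intro hw
        rw [pi_eq_sum_univ w]
        refine sum_mem fun a _ => ?_
        by_cases ha : n ≤ (a : ℕ) + (r + 1)
        · rw [hw a ha, zero_smul]; exact zero_mem _
        · refine Submodule.smul_mem _ _ ?_
          have hb : (a : ℕ) + 1 < n := by omega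
          set b : Fin n := ⟨_, hb⟩ with hbdef
          have hab : a < b := by rw [Fin.lt_def]; show (a : ℕ) < a + 1; omega
          have hmem : (Pi.single b 1 : Vn) ∈ chn (Uu K n) r := (ih _).2 fun c hc => by
            refine Pi.single_eq_of_ne (fun e => ?_) _
            subst e; change n ≤ (a : ℕ) + 1 + r at hc; omega
          have := sub_mem_chn (tv_mem_Uu hab (1 : K)) hmem
          rw [tv_mulVec hab.ne, Pi.single_eq_same, mul_one, add_sub_cancel_left] at this
          convert this using 1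
          funext c
          simp [Pi.single_apply, eq_comm]
  intro i j hij
  have hj : (Pi.single j 1 : Vn) ∈ chn (Uu K n) (n - ((j : ℕ) + 1)) := (hE _ _).2 fun c hc => by
    refine Pi.single_eq_of_ne (fun e => ?_) _
    subst e; have := c.isLt; omega
  have := (hE _ _).1 (mulVec_mem_chn hg _ _ hj) i (by rw [Fin.lt_def] at hij; have := j.isLt; omega)
  rwa [Matrix.mulVec_single_one, Matrix.col_apply] at this

include p in
theorem isPGroup_Uu [Nonempty (Fin n)] : IsPGroup p (Uu K n) := by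
  rintro ⟨g, hg⟩
  have key : ∀ r : ℕ, ∀ i j : Fin n, (j : ℕ) < i + r → ((g.1 - 1) ^ r) i j = 0 := by
    intro r
    induction r with
    | zero =>
      intro i j h
      rw [pow_zero, Matrix.one_apply_ne]
      intro e; subst e; omega
    | succ r ih =>
      intro i j h
      rw [pow_succ', Matrix.mul_apply]
      refine Finset.sum_eq_zero fun l _ => ?_
      rcases le_or_gt (l : ℕ) i with hl | hl
      · rw [Matrix.sub_apply, hg i l (Fin.le_def.2 hl), sub_self, zero_mul]
      · rw [ih l j (by omega), mul_zero]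
  refine ⟨n, Subtype.ext ?_⟩
  have h0 : (g.1 - 1) ^ n = 0 := Matrix.ext fun i j => key n i j (by have := j.isLt; omega)
  have h1 : (g.1 - 1) ^ p ^ n = 0 :=
    pow_eq_zero_of_le (Nat.lt_pow_self (Fact.out : p.Prime).one_lt).le h0
  rw [sub_pow_char_pow_of_commute (p := p) (h := Commute.one_right _), one_pow, sub_eq_zero] at h1
  refine Subtype.ext ?_
  show ((g ^ p ^ n : SLn)).1 = _
  rw [val_pow, h1]
  rfl

include p in
/-- The upper unitriangular matrices form a Sylow subgroup. -/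
theorem exists_sylow_eq_Uu [Nonempty (Fin n)] : ∃ P : Sylow p SLn, (P : Subgroup SLn) = Uu K n := by
  classical
  obtain ⟨P, hP⟩ := (isPGroup_Uu (K := K) (n := n) (p := p)).exists_le_sylow
  refine ⟨P, le_antisymm (fun x hx => ?_) hP⟩
  haveI : Group.IsNilpotent (P : Subgroup SLn) := P.isPGroup'.isNilpotent
  by_contra hxU
  have hlt : (Uu K n).subgroupOf P < ⊤ := lt_top_iff_ne_top.2 fun e =>
    hxU (Subgroup.mem_subgroupOf.1 (e ▸ Subgroup.mem_top (⟨x, hx⟩ : (P : Subgroup SLn))))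
  obtain ⟨y, hy, hy'⟩ := SetLike.exists_of_lt (Group.normalizerCondition_of_isNilpotent _ hlt)
  refine hy' (Subgroup.mem_subgroupOf.2 ?_)
  have hyN : (y : SLn) ∈ Subgroup.normalizer (Uu K n : Set SLn) := by
    rw [Subgroup.mem_normalizer_iff] at hy
    refine Subgroup.mem_normalizer_iff.2 fun d => ⟨fun hd => ?_, fun hd => ?_⟩
    · exact Subgroup.mem_subgroupOf.1 ((hy ⟨d, hP hd⟩).1 (Subgroup.mem_subgroupOf.2 hd))
    · have h1 : d ∈ (P : Subgroup SLn) := by
        have := mul_mem (mul_mem (inv_mem y.2) (hP hd)) y.2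
        simpa [mul_assoc] using this
      exact Subgroup.mem_subgroupOf.1 ((hy ⟨d, h1⟩).2 (Subgroup.mem_subgroupOf.2 hd))
  have hB := mem_Bo_of_normalizer hyN
  obtain ⟨e, he⟩ := P.isPGroup' y
  have hdiag : ∀ m : ℕ, ∀ a : Fin n,
      (((y : SLn) ^ m : SLn)).1 a a = (y : SLn).1 a a ^ m := by
    intro m a
    induction m with
    | zero => rw [pow_zero, pow_zero, val_one, Matrix.one_apply_eq]
    | succ m ih =>
      rw [pow_succ, pow_succ, val_mul, Matrix.mul_apply, Finset.sum_eq_single a, ih]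
      · intro b _ hb
        rcases lt_or_gt_of_ne hb with hlt | hgt
        · rw [mem_Bo.1 ((Bo K n).pow_mem hB m) a b hlt, zero_mul]
        · rw [mem_Bo.1 hB b a hgt, mul_zero]
      · simp
  intro i j hij
  rcases hij.eq_or_lt with rfl | hlt
  · have h1 := hdiag (p ^ e) j
    rw [show ((y : SLn) ^ p ^ e : SLn) = 1 from congrArg Subtype.val he, val_one,
      Matrix.one_apply_eq] at h1
    have h2 : ((y : SLn).1 j j - 1) ^ p ^ e = 0 := by
      rw [sub_pow_char_pow, one_pow, ← h1, sub_self]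
    rw [Matrix.one_apply_eq]
    exact sub_eq_zero.1 (eq_zero_of_pow_eq_zero h2)
  · rw [Matrix.one_apply_ne hlt.ne', mem_Bo.1 hB i j hlt]

end CfsgLib.SLDefining
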