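import Cfsg.Agent.Lib.CharApps.SLDefining.StSimple
import Cfsg.Agent.Lib.CharApps.SLDefining.Radical
import Cfsg.Agent.Lib.Modular.BrauerDegree
import Cfsg.Agent.Lib.Modular.BrauerRational
import Cfsg.Agent.Lib.Blocks.Counting
import Cfsg.Agent.Lib.Blocks.FullDefect
import Cfsg.Agent.Lib.Blocks.TrivialInertia
import Cfsg.Agent.Lib.CharApps.NormalDefectCount
import Cfsg.Agent.Lib.Blocks.NormalBlocks
import Cfsg.Agent.Lib.Classical.Order

/-!
# The blocks of `SL_n` in defining characteristic
-/

set_option autoImplicit false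
set_option linter.unusedSectionVars false
set_option linter.style.haveILetI false

namespace CfsgLib.SLDefining

open Cfsg Finset
open CfsgLib.Modular (IsInvar IsSimpleRep subRep)
open CfsgLib.BrauerChar

universe u

section General

variable {G : Type u} [Group G] [Finite G] {p : ℕ} [Fact p.Prime]
variable {V : ValuationSubring ℂ} [CharP (Res V) p] {M : Ideal AlgInt} [M.IsPrime]

/-- A simple projective representation lies in a block of defect zero. -/
theorem exists_defect_zero_of_trace [i : Fintype G] (hpM : (p : AlgInt) ∈ M) (hV : IsPlaceOver p M V)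
    {s : ColRep V G} (hs : IsSimpleRep s.2) (f : (Fin s.1 → Res V) →ₗ[Res V] (Fin s.1 → Res V))
    (hf : ∑ g : G, s.2 g * f * s.2 g⁻¹ = 1) :
    ∃ B : Set (IrrCharacter G), IsPBlock M B ∧ blockDefect p B = 0 := by
  classical
  obtain rfl : i = @Fintype.ofFinite G ‹Finite G› := Subsingleton.elim _ _
  letI := @Fintype.ofFinite G ‹Finite G›
  obtain ⟨B, hB, t, ht, hte, htc⟩ := exists_block_of_simple hV
    (φ := bch p s.2) ⟨s, hs, rfl⟩
  obtain ⟨χ, hχ⟩ := Blocks.IsPBlock.nonempty hB
  refine ⟨B, hB, ?_⟩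
  by_contra hd
  obtain ⟨a, rfl⟩ := hs.asAlgebraHom_surjective f
  -- every class of trivial defect acts as zero
  have hzero : ∀ h : G,
      (Nat.card (Subgroup.centralizer ({h} : Set G)) : Res V) •
        s.2.asAlgebraHom (classElt V h) = 0 := by
    intro h
    by_cases hp : p ∣ Nat.card (Subgroup.centralizer ({h} : Set G))
    · rw [(CharP.cast_eq_zero_iff (Res V) p _).2 hp, zero_smul]
    have hmem : MemLocalIdeal M (centralChar (χ : G → ℂ) h) :=
      Blocks.centralChar_mem_of_small_defect hpM hB (by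
        rw [Nat.factorization_eq_zero_of_not_dvd hp]; omega) hχ
    have h0 : omegaRes hV χ h = 0 := by
      rw [omegaRes]
      exact (hV.res_eq_zero_iff _ (Blocks.isIntegral_mem_loc (Blocks.isIntegral_centralChar χ h))).2 hmem
    have h1 := htc χ hχ h
    rw [h0, zero_smul] at h1
    obtain ⟨c, hc⟩ := hs.schur (f := s.2.asAlgebraHom (classElt V h)) fun g v => by
      rw [← s.2.asAlgebraHom_single_one g, ← Module.End.mul_apply, ← Module.End.mul_apply, ← map_mul,
        ← map_mul]
      congr 2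
      rw [classElt, Finset.sum_mul, Finset.mul_sum]
      refine Finset.sum_equiv (MulAut.conj g⁻¹).toEquiv (fun x => ?_) fun x _ => ?_
      · simp only [Finset.mem_filter, Finset.mem_univ, true_and]
        exact ⟨fun hx => hx.trans (isConj_iff.2 ⟨g⁻¹, rfl⟩),
          fun hx => hx.trans (isConj_iff.2 ⟨g⁻¹, rfl⟩).symm⟩
      · simp [MonoidAlgebra.single_mul_single, mul_assoc]
    have hc0 : c = 0 := scalar_eq_of_bch_eq (p := p) hs ht hte.symm (c' := 0) hc
      (by rw [h1, zero_smul])
    rw [hc, hc0, zero_smul, smul_zero]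
  have hcalc : ∑ g : G, s.2 g * s.2.asAlgebraHom a * s.2 g⁻¹ =
      ∑ h : G, a.coeff h • ((Nat.card (Subgroup.centralizer ({h} : Set G)) : Res V) •
        s.2.asAlgebraHom (classElt V h)) := by
    have ha : s.2.asAlgebraHom a = ∑ h : G, a.coeff h • s.2 h := by
      rw [Representation.asAlgebraHom_def, MonoidAlgebra.lift_apply]
      exact Finsupp.sum_fintype _ _ (fun _ => zero_smul _ _)
    simp only [ha, Finset.mul_sum, Finset.sum_mul, mul_smul_comm, smul_mul_assoc]
    rw [Finset.sum_comm]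
    refine Finset.sum_congr rfl fun h _ => ?_
    rw [← Finset.smul_sum]
    congr 1
    simp only [← map_mul]
    rw [classElt, map_sum, Finset.smul_sum,
      ← Finset.sum_fiberwise_of_maps_to (g := fun g : G => g * h * g⁻¹)
        (t := univ.filter (fun x => IsConj h x))
        (fun g _ => Finset.mem_filter.2 ⟨Finset.mem_univ _, isConj_iff.2 ⟨g, rfl⟩⟩)]
    refine Finset.sum_congr (by ext; simp) fun x hx => ?_
    obtain ⟨c, hc⟩ := isConj_iff.1 (Finset.mem_filter.1 hx).2
    rw [Finset.sum_congr rfl fun g hg => by rw [(Finset.mem_filter.1 hg).2], Finset.sum_const,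
      Representation.asAlgebraHom_single_one, Nat.cast_smul_eq_nsmul]
    congr 1
    rw [Nat.card_eq_fintype_card, ← Fintype.card_subtype]
    refine Fintype.card_congr
      { toFun := fun g => ⟨c⁻¹ * g.1, Subgroup.mem_centralizer_singleton_iff.2 ?_⟩
        invFun := fun z => ⟨c * (z : G), ?_⟩
        left_inv := fun g => Subtype.ext (mul_inv_cancel_left _ _)
        right_inv := fun z => Subtype.ext (inv_mul_cancel_left _ _) }
    · have hg : g.1 * h * g.1⁻¹ = c * h * c⁻¹ := g.2.trans hc.symm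
      calc c⁻¹ * g.1 * h = c⁻¹ * (g.1 * h * g.1⁻¹) * g.1 := by group
        _ = h * (c⁻¹ * g.1) := by rw [hg]; group
    · have hz := Subgroup.mem_centralizer_singleton_iff.1 z.2
      calc c * (z : G) * h * (c * (z : G))⁻¹ = c * ((z : G) * h * (z : G)⁻¹) * c⁻¹ := by group
        _ = c * h * c⁻¹ := by rw [hz, mul_inv_cancel_right]
        _ = x := hc
  rw [hcalc, Finset.sum_congr rfl fun h _ => by rw [hzero h, smul_zero], Finset.sum_const_zero] at hf
  haveI := hs.nontrivial
  exact zero_ne_one hf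

/-- A block of defect zero has a simple representation of dimension divisible by `#G_p`. -/
theorem exists_simple_of_defect_zero [Fintype G] (hV : IsPlaceOver p M V) (hM : IsPModular p M)
    {B : Set (IrrCharacter G)} (hB : IsPBlock M B) (hd : blockDefect p B = 0) :
    ∃ s : ColRep V G, IsSimpleRep s.2 ∧ p ^ (Nat.card G).factorization p ∣ s.1 ∧
      bch p s.2 ∈ blockSimples hV B := by
  classical
  have hne : (blockSimples hV B).Nonempty := by
    by_contra hne
    rw [Set.not_nonempty_iff_eq_empty] at hne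
    have h1 := card_blockSimples hV hB
    have h2 := Blocks.one_le_blockRank (M := M) (p := p) hB
    simp [hne] at h1
    omega
  obtain ⟨φ, hφ⟩ := hne
  obtain ⟨s, hs, rfl, hsc⟩ := id hφ
  have hdeg : ∀ χ ∈ B, p ^ (Nat.card G).factorization p ∣ charDegree (χ : G → ℂ) := by
    intro χ hχ
    rw [(Fact.out : p.Prime).pow_dvd_iff_le_factorization (BlockOrth.irr_charDegree_ne_zero χ)]
    have h1 := BlockOrth.blockMin_le (p := p) hχ
    rw [BlockOrth.degVal] at h1
    have h2 := BlockOrth.blockMin_add_blockDefect (p := p) (Blocks.IsPBlock.nonempty hB)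
    omega
  obtain ⟨m, hm, -, hdvd⟩ := exists_degree_dvd hV hB hφ hdeg
  rw [bch_one, Module.finrank_fin_fun, Nat.cast_inj] at hm
  exact ⟨s, hs, hm ▸ hdvd, hφ⟩

end General

section SL

variable {F : Type u} [Field F] [Fintype F] {n p : ℕ} [Fact p.Prime] [CharP F p]
variable {M : Ideal AlgInt}

local notation "SLn" => Matrix.SpecialLinearGroup (Fin n) F

theorem card_Uu_eq [Nonempty (Fin n)] :
    Nat.card (Uu F n) = p ^ (Nat.card SLn).factorization p := by
  obtain ⟨P, hP⟩ := exists_sylow_eq_Uu (K := F) (n := n) (p := p)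
  rw [← hP, P.card_eq_multiplicity]

/-- **Exactly one block of defect zero.** -/
theorem card_defect_zero (hn : 2 ≤ n) (hM : IsPModular p M) :
    Nat.card {B : Set (IrrCharacter SLn) // IsPBlock M B ∧ blockDefect p B = 0} = 1 := by
  classical
  haveI := CfsgLib.Blocks.isPrime_of_isPModular hM
  obtain ⟨V, hV⟩ := exists_place hM.2.2
  haveI := hV.charP
  haveI : Fintype SLn := Fintype.ofFinite _
  haveI : Nontrivial (Fin n) := Fin.nontrivial_iff_two_le.2 hn
  haveI : Nonempty (Fin n) := ⟨⟨0, by omega⟩⟩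
  have hU : IsPGroup p (Uu F n) := isPGroup_Uu
  have hcard : Nat.card (Ul F n) = p ^ (Nat.card SLn).factorization p := by
    rw [card_Ul_eq, card_Uu_eq (p := p)]
  haveI : Subsingleton {B : Set (IrrCharacter SLn) // IsPBlock M B ∧ blockDefect p B = 0} := by
    refine ⟨fun B B' => Subtype.ext ?_⟩
    obtain ⟨s, hs, hsd, hsB⟩ := exists_simple_of_defect_zero hV hM B.2.1 B.2.2
    obtain ⟨t, ht, htd, htB⟩ := exists_simple_of_defect_zero hV hM B'.2.1 B'.2.2
    obtain ⟨h1, v, hv⟩ := exists_stdVec (p := p) hU hs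
      (by rw [Module.finrank_fin_fun, hcard]; exact hsd)
    obtain ⟨h2, v', hv'⟩ := exists_stdVec (p := p) hU ht
      (by rw [Module.finrank_fin_fun, hcard]; exact htd)
    obtain ⟨e, he⟩ := exists_iso (p := p) hs ht h1 h2 hv hv'
    rw [← bch_congr (p := p) e he] at htB
    exact eq_of_mem_blockSimples hV B.2.1 B'.2.1 hsB htB
  haveI : Nonempty {B : Set (IrrCharacter SLn) // IsPBlock M B ∧ blockDefect p B = 0} := by
    have hS := stMod_simple (K := F) (n := n) (k := Res V) (p := p) hU
    haveI := Fintype.ofFinite (Uu F n)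
    obtain ⟨f, hf⟩ := exists_trace (K := F) (n := n) (k := Res V)
    set ρ := subRep (pr F n (Res V)) (stMod F n (Res V)) stMod_invar with hρ
    have hU1 : ∑ u : Uu F n, ρ (u : SLn) * f * ρ (u : SLn)⁻¹ = 1 := by
      refine LinearMap.ext fun w => ?_
      rw [LinearMap.sum_apply]
      exact hf w stMod_invar
    have hidx : ((Uu F n).index : Res V) ≠ 0 := by
      obtain ⟨P, hP⟩ := exists_sylow_eq_Uu (K := F) (n := n) (p := p)
      rw [Ne, CharP.cast_eq_zero_iff (Res V) p, ← hP]
      exact P.not_dvd_index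
    haveI : Fintype (SLn ⧸ Uu F n) := Fintype.ofFinite _
    have hG : ∑ g : SLn, ρ g * f * ρ g⁻¹ = ((Uu F n).index : Res V) • 1 := by
      let E : (SLn ⧸ Uu F n) × Uu F n → SLn := fun x => x.1.out * (x.2 : SLn)
      have hE : Function.Bijective E := by
        refine ⟨fun x y hxy => ?_, fun g => ⟨(QuotientGroup.mk g,
          ⟨(QuotientGroup.mk g : SLn ⧸ Uu F n).out⁻¹ * g, ?_⟩), mul_inv_cancel_left _ _⟩⟩
        · have h1 : x.1 = y.1 := by
            have := congrArg (QuotientGroup.mk (s := Uu F n)) hxy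
            simpa [E, QuotientGroup.out_eq'] using this
          have hxy' : x.1.out * (x.2 : SLn) = y.1.out * (y.2 : SLn) := hxy
          rw [h1, mul_right_inj] at hxy'
          exact Prod.ext h1 (Subtype.ext hxy')
        · rw [← QuotientGroup.eq, QuotientGroup.out_eq']
      rw [← Equiv.sum_comp (Equiv.ofBijective E hE), Fintype.sum_prod_type, Subgroup.index,
        Nat.card_eq_fintype_card, Nat.cast_smul_eq_nsmul, ← Finset.card_univ, ← Finset.sum_const]
      refine Finset.sum_congr rfl fun q _ => ?_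
      simp only [Equiv.ofBijective_apply, E, _root_.mul_inv_rev, map_mul]
      calc ∑ u : Uu F n, ρ q.out * ρ (u : SLn) * f * (ρ (u : SLn)⁻¹ * ρ q.out⁻¹)
          = ρ q.out * (∑ u : Uu F n, ρ (u : SLn) * f * ρ (u : SLn)⁻¹) * ρ q.out⁻¹ := by
            rw [Finset.mul_sum, Finset.sum_mul]
            exact Finset.sum_congr rfl fun u _ => by simp only [mul_assoc]
        _ = 1 := by rw [hU1, mul_one, ← map_mul, mul_inv_cancel, map_one]
    -- transport to a column representation
    let e := (Module.finBasis (Res V) (stMod F n (Res V))).equivFun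
    let f' : (Fin _ → Res V) →ₗ[Res V] (Fin _ → Res V) :=
      e.conj (((Uu F n).index : Res V)⁻¹ • f)
    obtain ⟨B, hB, hB0⟩ := exists_defect_zero_of_trace hM.2.2 hV
      (s := ⟨_, finRep ρ⟩) (isSimpleRep_finRep hS) f' (by
        have h1 : ∀ g, finRep ρ g = e.conj (ρ g) := fun g => rfl
        simp only [h1, f']
        have hc : ∀ a b : Module.End (Res V) (stMod F n (Res V)), e.conj a * e.conj b = e.conj (a * b) :=
          fun a b => (LinearEquiv.conj_comp e b a).symm
        rw [Finset.sum_congr rfl fun g _ => by rw [hc, hc, mul_smul_comm, smul_mul_assoc],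
          ← map_sum, ← Finset.smul_sum, hG, inv_smul_smul₀ hidx]
        exact LinearEquiv.conj_id e)
    exact ⟨⟨B, hB, hB0⟩⟩
  exact Nat.card_unique

theorem Uu_ne_bot (hn : 2 ≤ n) : Uu F n ≠ ⊥ := fun e => by
  have h : StSL.tv (⟨0, by omega⟩ : Fin n) ⟨1, by omega⟩ (1 : F) ∈ Uu F n :=
    tv_mem_Uu (by rw [Fin.lt_def]; exact Nat.one_pos) 1
  rw [e, Subgroup.mem_bot] at h
  have h2 := tv_apply_self (K := F) (i := (⟨0, by omega⟩ : Fin n)) (j := ⟨1, by omega⟩)
    (by simp) (1 : F)
  rw [h, val_one, Matrix.one_apply_ne (by simp)] at h2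
  exact zero_ne_one h2

/-- **Every block has trivial or full defect.** -/
theorem defect_zero_or_full (hn : 2 ≤ n) (hM : IsPModular p M) {B : Set (IrrCharacter SLn)}
    (hB : IsPBlock M B) :
    blockDefect p B = 0 ∨ blockDefect p B = (Nat.card SLn).factorization p := by
  classical
  haveI := CfsgLib.Blocks.isPrime_of_isPModular hM
  haveI : Fintype SLn := Fintype.ofFinite _
  haveI : Nonempty (Fin n) := ⟨⟨0, by omega⟩⟩
  refine or_iff_not_imp_left.2 fun hd => ?_
  obtain ⟨D, hD⟩ := Blocks.exists_isDefectGroup (p := p) hB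
  have hDp := Blocks.IsDefectGroup.isPGroup hD
  have hcard := BlockOrth.card_defectGroup hM.2.2 hB hD
  have hD1 : D ≠ ⊥ := fun e => by
    rw [e, Subgroup.card_bot] at hcard
    exact hd ((pow_eq_one_iff_right (Fact.out : p.Prime).ne_one).1 hcard.symm)
  have hrad : ∀ Q : Subgroup SLn, IsPGroup p Q → Q ≤ Subgroup.normalizer (D : Set SLn) →
      (∀ g ∈ Subgroup.normalizer (D : Set SLn), ∀ q ∈ Q, g * q * g⁻¹ ∈ Q) → Q ≤ D := by
    intro Q hQ hQN hQn
    haveI := Fintype.ofFinite (Subgroup.normalizer (D : Set SLn))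
    obtain ⟨b, hb, hbD, -⟩ := Blocks.first_main_exists hM.2.2 hB hD
    haveI : (Q.subgroupOf (Subgroup.normalizer (D : Set SLn))).Normal :=
      ⟨fun q hq g => Subgroup.mem_subgroupOf.2 (hQn g g.2 q (Subgroup.mem_subgroupOf.1 hq))⟩
    have h := Blocks.IsDefectGroup.normal_le hM.2.2 hb hbD
      (hQ.of_equiv (Subgroup.subgroupOfEquivOfLe hQN).symm)
    exact fun q hq => Subgroup.mem_subgroupOf.1
      (h (Subgroup.mem_subgroupOf.2 (show ((⟨q, hQN hq⟩ : Subgroup.normalizer (D : Set SLn)) : SLn) ∈ Q from hq)))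
  obtain ⟨g, hg, P, hP⟩ := id hD
  have hcomm : ∀ d ∈ D, g * d = d * g := fun d hd' => by
    rw [hP] at hd'
    obtain ⟨z, -, rfl⟩ := hd'
    exact (Subgroup.mem_centralizer_singleton_iff.1 z.2).symm
  have hcen := central_of_radical hDp hD1 hrad hcomm
    (Blocks.IsDefectClass.regular hM.2.2 hB hg)
  have htop : Subgroup.centralizer ({g} : Set SLn) = ⊤ := eq_top_iff.2 fun x _ =>
    Subgroup.mem_centralizer_singleton_iff.2 (Subgroup.mem_center_iff.1 hcen x)
  refine Nat.pow_right_injective (Fact.out : p.Prime).two_le ?_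
  show p ^ blockDefect p B = p ^ (Nat.card SLn).factorization p
  rw [← hcard, hP, Subgroup.card_map_of_injective (Subgroup.subtype_injective _),
    P.card_eq_multiplicity, htop, Subgroup.card_top]

theorem orderOf_center_regular (hn : 2 ≤ n) (z : Subgroup.center SLn) :
    ¬ p ∣ orderOf (z : SLn) := by
  classical
  haveI : Nonempty (Fin n) := ⟨⟨0, by omega⟩⟩
  intro hdvd
  have h1 : p ∣ Nat.card (rootsOfUnity (Fintype.card (Fin n)) F) := by
    rw [← Nat.card_congr (Matrix.SpecialLinearGroup.center_equiv_rootsOfUnity'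
      (R := F) (⟨0, by omega⟩ : Fin n)).toEquiv]
    exact hdvd.trans (by rw [Subgroup.orderOf_coe]; exact orderOf_dvd_natCard z)
  have h2 : p ∣ Nat.card Fˣ := h1.trans (Subgroup.card_subgroup_dvd_card _)
  rw [Nat.card_units, Nat.card_eq_fintype_card] at h2
  obtain ⟨e, -, he⟩ := FiniteField.card F p
  rw [he] at h2
  have h3 : p ∣ p ^ (e : ℕ) := dvd_pow_self p e.ne_zero
  have h4 := Nat.dvd_sub h3 h2
  rw [Nat.sub_sub_self (Nat.one_le_pow _ _ (Fact.out : p.Prime).pos)] at h4
  exact (Fact.out : p.Prime).not_dvd_one h4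

/-- The number of blocks of full defect. -/
theorem card_blocks_full (hn : 2 ≤ n) (hM : IsPModular p M) :
    Nat.card {B : Set (IrrCharacter SLn) //
      IsPBlock M B ∧ blockDefect p B = (Nat.card SLn).factorization p} =
      Nat.card (Subgroup.center SLn) := by
  classical
  haveI := CfsgLib.Blocks.isPrime_of_isPModular hM
  haveI : Fintype SLn := Fintype.ofFinite _
  haveI : Nonempty (Fin n) := ⟨⟨0, by omega⟩⟩
  obtain ⟨P, hP⟩ := exists_sylow_eq_Uu (K := F) (n := n) (p := p)
  have hiff : ∀ B : Set (IrrCharacter SLn), (IsPBlock M B ∧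
      blockDefect p B = (Nat.card SLn).factorization p) ↔
        IsPBlock M B ∧ IsDefectGroup p M B (P : Subgroup SLn) := by
    refine fun B => and_congr_right fun hB => ⟨fun h => ?_, fun h => ?_⟩
    · obtain ⟨D, hD⟩ := Blocks.exists_isDefectGroup (p := p) hB
      have hc := BlockOrth.card_defectGroup hM.2.2 hB hD
      rw [h] at hc
      obtain ⟨x, hx⟩ := MulAction.exists_smul_eq SLn
        (Sylow.ofCard D hc : Sylow p SLn) P
      have := Blocks.IsDefectGroup.map_conj hD x hB
      convert this using 1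
      rw [← hx]
      rfl
    · have h1 := BlockOrth.card_defectGroup hM.2.2 hB h
      rw [P.card_eq_multiplicity] at h1
      exact (Nat.pow_right_injective (Fact.out : p.Prime).two_le h1).symm
  rw [Nat.card_congr (Equiv.subtypeEquivRight hiff), Blocks.card_blocks_sylow_defect hM.2.2 P]
  set N := Subgroup.normalizer ((P : Subgroup SLn) : Set SLn) with hN
  have hcz : ∀ z : Subgroup.center SLn, (z : SLn) ∈ N := fun z =>
    Subgroup.center_le_normalizer _ z.2
  have hcentral : ∀ m : N, ¬ p ∣ orderOf m → (m : SLn) ∈ Subgroup.centralizer ((P : Subgroup SLn) : Set SLn) →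
      (m : SLn) ∈ Subgroup.center SLn := by
    intro m hm hc
    refine central_of_radical P.isPGroup' (hP ▸ Uu_ne_bot hn) (fun Q hQ hQN _ => ?_)
      (fun d hd => (Subgroup.mem_centralizer_iff.1 hc d hd).symm) (by rwa [Subgroup.orderOf_coe])
    have h1 : IsPGroup p ↥((P : Subgroup SLn) ⊔ Q) := P.isPGroup'.to_sup_of_normal_left' hQ hQN
    exact le_sup_right.trans_eq (P.is_maximal' h1 le_sup_left)
  refine (Nat.card_congr (Equiv.ofBijective
    (fun z : Subgroup.center SLn => (⟨ConjClasses.mk (⟨(z : SLn), hcz z⟩ : N), ?_⟩ :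
      {C : ConjClasses N // ∀ m : N, ConjClasses.mk m = C →
        ¬ p ∣ orderOf m ∧ (m : SLn) ∈ Subgroup.centralizer ((P : Subgroup SLn) : Set SLn)})) ⟨?_, ?_⟩)).symm
  · intro m hm
    obtain ⟨c, hc⟩ := isConj_iff.1 (ConjClasses.mk_eq_mk_iff_isConj.1 hm.symm)
    have hm' : (m : SLn) = z := by
      rw [← hc]
      show (c : SLn) * z * (c : SLn)⁻¹ = z
      rw [Subgroup.mem_center_iff.1 z.2, mul_inv_cancel_right]
    refine ⟨by rw [← Subgroup.orderOf_coe, hm']; exact orderOf_center_regular hn z, ?_⟩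
    rw [hm']
    exact Subgroup.center_le_centralizer _ z.2
  · intro z z' h
    obtain ⟨c, hc⟩ := isConj_iff.1 (ConjClasses.mk_eq_mk_iff_isConj.1 (congrArg Subtype.val h))
    have : (c : SLn) * z * (c : SLn)⁻¹ = z' := congrArg Subtype.val hc
    rw [Subgroup.mem_center_iff.1 z.2, mul_inv_cancel_right] at this
    exact Subtype.ext this
  · rintro ⟨C, hC⟩
    obtain ⟨m, rfl⟩ := ConjClasses.mk_surjective C
    exact ⟨⟨m, hcentral m (hC m rfl).1 (hC m rfl).2⟩, rfl⟩

end SL

end CfsgLib.SLDefining
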