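import Cfsg.Agent.Lib.CharApps.SLDefining.Monomial

/-!
# The unipotent parts of the cells of `SL_n`
-/

set_option autoImplicit false
set_option linter.unusedSectionVars false
set_option linter.style.haveILetI false

namespace CfsgLib.SLDefining

open Matrix Finset
open CfsgLib.StSL (tv tv_coe tv_mulVec sl_ext mul_mulVec')

universe u

variable {K : Type u} [Field K] [Fintype K] {n : ℕ}

local notation "SLn" => SpecialLinearGroup (Fin n) K

theorem add_apply_succ {a b : SLn} (ha : a ∈ Uu K n) (hb : b ∈ Uu K n) {i i' : Fin n}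
    (hii : (i : ℕ) + 1 = i') : (a * b).1 i i' = a.1 i i' + b.1 i i' := by
  have hlt : i < i' := by rw [Fin.lt_def]; omega
  rw [val_mul, Matrix.mul_apply, ← Finset.sum_subset (s₁ := {i, i'}) (Finset.subset_univ _)]
  · rw [Finset.sum_pair hlt.ne, ha i i le_rfl, hb i' i' le_rfl, Matrix.one_apply_eq,
      Matrix.one_apply_eq]
    ring
  · intro k _ hk
    simp only [Finset.mem_insert, Finset.mem_singleton, not_or] at hk
    rcases lt_or_gt_of_ne hk.1 with h | h
    · rw [ha i k h.le, Matrix.one_apply_ne (Ne.symm hk.1), zero_mul]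
    · have h' : i' ≤ k := by rw [Fin.le_def]; rw [Fin.lt_def] at h; omega
      rw [hb k i' h', Matrix.one_apply_ne hk.2, mul_zero]

theorem tv_apply_self {i j : Fin n} (h : i ≠ j) (t : K) : (tv i j t).1 i j = t := by
  rw [tv_coe h, Matrix.transvection, Matrix.add_apply, Matrix.one_apply_ne h,
    Matrix.single_apply, if_pos ⟨rfl, rfl⟩, zero_add]

/-- Conjugation across a simple reflection keeps unitriangularity off the simple entry. -/
theorem conj_swap_mem_Uu {r u : SLn} {i i' : Fin n} (hii : (i : ℕ) + 1 = i')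
    (hr : IsMono r (Equiv.swap i i')) (hu : u ∈ Uu K n) (h0 : u.1 i i' = 0) :
    r * u * r⁻¹ ∈ Uu K n ∧ (r * u * r⁻¹).1 i i' = 0 := by
  have hlt : i < i' := by rw [Fin.lt_def]; omega
  refine ⟨fun a b hab => ?_, ?_⟩
  · obtain ⟨a, rfl⟩ := (Equiv.swap i i').surjective a
    obtain ⟨b, rfl⟩ := (Equiv.swap i i').surjective b
    have e := hr.conj_apply u a b
    by_cases h : a = b
    · subst h
      rw [hu a a le_rfl, Matrix.one_apply_eq, mul_one] at e
      rw [Matrix.one_apply_eq]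
      exact (mul_eq_right₀ (hr.apply_ne_zero a)).1 e
    · rw [Matrix.one_apply_ne ((Equiv.swap i i').injective.ne h), hr.conj_eq_zero_iff]
      rcases lt_or_gt_of_ne h with hlt' | hgt
      · have : a = i ∧ b = i' := by
          simp only [Equiv.swap_apply_def] at hab
          split_ifs at hab <;> constructor <;> simp only [Fin.le_def, Fin.lt_def, Fin.ext_iff] at * <;>
            omega
        rw [this.1, this.2, h0]
      · rw [hu a b hgt.le, Matrix.one_apply_ne h]
  · have := (hr.conj_eq_zero_iff u i' i).2 (by rw [hu i' i hlt.le, Matrix.one_apply_ne hlt.ne'])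
    rwa [Equiv.swap_apply_left, Equiv.swap_apply_right] at this

/-- The unipotent part of the cell of `m`. -/
def Uw (m : SLn) : Subgroup SLn := Uu K n ⊓ (Ul K n).comap (MulAut.conj m⁻¹).toMonoidHom

theorem mem_Uw {m u : SLn} : u ∈ Uw m ↔ u ∈ Uu K n ∧ m⁻¹ * u * m ∈ Ul K n := by
  rw [Uw, Subgroup.mem_inf, Subgroup.mem_comap, MulEquiv.coe_toMonoidHom, MulAut.conj_apply,
    inv_inv]

theorem mem_Uw_iff {m u : SLn} {σ : Equiv.Perm (Fin n)} (hm : IsMono m σ) :
    u ∈ Uw m ↔ u ∈ Uu K n ∧ ∀ a b, a < b → u.1 a b ≠ 0 → σ⁻¹ b < σ⁻¹ a := by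
  rw [mem_Uw]
  refine and_congr_right fun hu => ?_
  have key : ∀ a b, (m⁻¹ * u * m).1 (σ⁻¹ a) (σ⁻¹ b) * m⁻¹.1 (σ⁻¹ b) b =
      m⁻¹.1 (σ⁻¹ a) a * u.1 a b := fun a b => by
    have := hm.inv.conj_apply u a b
    rwa [inv_inv] at this
  constructor
  · intro h a b hab hne
    by_contra hle
    rw [not_lt] at hle
    have e := key a b
    rw [h _ _ hle, Matrix.one_apply_ne (fun e' => hab.ne ((σ⁻¹).injective e')), zero_mul] at e
    exact mul_ne_zero (hm.inv.apply_ne_zero a) hne e.symm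
  · intro h j k hjk
    obtain ⟨a, rfl⟩ := (σ⁻¹).surjective j
    obtain ⟨b, rfl⟩ := (σ⁻¹).surjective k
    have e := key a b
    by_cases hab : a = b
    · subst hab
      rw [hu a a le_rfl, Matrix.one_apply_eq, mul_one] at e
      rw [Matrix.one_apply_eq]
      exact (mul_eq_right₀ (hm.inv.apply_ne_zero a)).1 e
    · have h0 : u.1 a b = 0 := by
        rcases lt_or_gt_of_ne hab with hlt | hgt
        · by_contra hne
          exact absurd (h a b hlt hne) hjk.not_gt
        · rw [hu a b hgt.le, Matrix.one_apply_ne hab]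
      rw [h0, mul_zero] at e
      rw [Matrix.one_apply_ne ((σ⁻¹).injective.ne hab)]
      exact (mul_eq_zero.1 e).resolve_right (hm.inv.apply_ne_zero b)

theorem Uw_le_Uu (m : SLn) : Uw m ≤ Uu K n := inf_le_left

theorem Uw_congr {m m' : SLn} {σ : Equiv.Perm (Fin n)} (hm : IsMono m σ) (hm' : IsMono m' σ) :
    Uw m = Uw m' := by
  ext u; rw [mem_Uw_iff hm, mem_Uw_iff hm']

theorem Uw_eq_bot {m : SLn} (hm : IsMono m 1) : Uw m = ⊥ := by
  refine (Subgroup.eq_bot_iff_forall _).2 fun u hu => ?_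
  obtain ⟨hU, h⟩ := (mem_Uw_iff hm).1 hu
  refine Subtype.ext (Matrix.ext fun a b => ?_)
  rw [val_one]
  rcases lt_or_ge a b with hab | hab
  · rw [Matrix.one_apply_ne hab.ne]
    by_contra hne
    exact absurd (h a b hab hne) (by simpa using hab.le)
  · exact hU a b hab

theorem Uw_longest {m : SLn} (hm : IsMono m Fin.revPerm) : Uw m = Uu K n :=
  le_antisymm (Uw_le_Uu m) fun u hu => (mem_Uw_iff hm).2 ⟨hu, fun a b hab _ => by
    rw [show (Fin.revPerm : Equiv.Perm (Fin n))⁻¹ = Fin.revPerm from Fin.revPerm_symm]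
    simpa using hab⟩

theorem conj_swap_mem_Uw {r m u : SLn} {σ : Equiv.Perm (Fin n)} {i i' : Fin n}
    (hii : (i : ℕ) + 1 = i') (hr : IsMono r (Equiv.swap i i')) (hm : IsMono m σ) (hu : u ∈ Uw m)
    (h0 : u.1 i i' = 0) : r * u * r⁻¹ ∈ Uw (r * m) ∧ (r * u * r⁻¹).1 i i' = 0 := by
  obtain ⟨hU, h⟩ := (mem_Uw_iff hm).1 hu
  obtain ⟨hU', h0'⟩ := conj_swap_mem_Uu hii hr hU h0
  refine ⟨(mem_Uw_iff (hr.mul hm)).2 ⟨hU', fun a b hab hne => ?_⟩, h0'⟩
  obtain ⟨a, rfl⟩ := (Equiv.swap i i').surjective a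
  obtain ⟨b, rfl⟩ := (Equiv.swap i i').surjective b
  rw [Ne, hr.conj_eq_zero_iff] at hne
  have hab' : a < b := by
    rcases lt_trichotomy a b with h' | h' | h'
    · exact h'
    · exact absurd hab (by rw [h']; exact lt_irrefl _)
    · exact absurd (by rw [hU a b h'.le, Matrix.one_apply_ne h'.ne']) hne
  simpa using h a b hab' hne

theorem entry_eq_zero {m u : SLn} {σ : Equiv.Perm (Fin n)} {i i' : Fin n}
    (hii : (i : ℕ) + 1 = i') (hm : IsMono m σ) (hd : ¬ σ⁻¹ i' < σ⁻¹ i) (hu : u ∈ Uw m) :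
    u.1 i i' = 0 := by
  by_contra hne
  exact hd (((mem_Uw_iff hm).1 hu).2 i i' (by rw [Fin.lt_def]; omega) hne)

theorem tv_mem_Uw_step {r m : SLn} {σ : Equiv.Perm (Fin n)} {i i' : Fin n}
    (hii : (i : ℕ) + 1 = i') (hr : IsMono r (Equiv.swap i i')) (hm : IsMono m σ)
    (hd : ¬ σ⁻¹ i' < σ⁻¹ i) (t : K) : tv i i' t ∈ Uw (r * m) := by
  have hlt : i < i' := by rw [Fin.lt_def]; omega
  refine (mem_Uw_iff (hr.mul hm)).2 ⟨tv_mem_Uu hlt t, fun a b hab hne => ?_⟩
  rw [tv_coe hlt.ne, Matrix.transvection, Matrix.add_apply, Matrix.one_apply_ne hab.ne,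
    Matrix.single_apply, zero_add] at hne
  obtain ⟨rfl, rfl⟩ : i = a ∧ i' = b := by
    by_contra h; exact hne (if_neg h)
  have hne' : σ⁻¹ i ≠ σ⁻¹ i' := (σ⁻¹).injective.ne hlt.ne
  simpa using lt_of_le_of_ne (not_lt.1 hd) hne'

/-- The step across a simple reflection. -/
noncomputable def stepEquiv {r m : SLn} {σ : Equiv.Perm (Fin n)} {i i' : Fin n}
    (hii : (i : ℕ) + 1 = i') (hr : IsMono r (Equiv.swap i i')) (hm : IsMono m σ)
    (hd : ¬ σ⁻¹ i' < σ⁻¹ i) : K × Uw m ≃ Uw (r * m) :=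
  Equiv.ofBijective (fun x => ⟨tv i i' x.1 * (r * (x.2 : SLn) * r⁻¹),
    (Uw (r * m)).mul_mem (tv_mem_Uw_step hii hr hm hd x.1)
      (conj_swap_mem_Uw hii hr hm x.2.2 (entry_eq_zero hii hm hd x.2.2)).1⟩) (by
    have hlt : i < i' := by rw [Fin.lt_def]; omega
    have hentry : ∀ x : K × Uw m, (tv i i' x.1 * (r * (x.2 : SLn) * r⁻¹)).1 i i' = x.1 := by
      intro x
      obtain ⟨h1, h2⟩ := conj_swap_mem_Uw hii hr hm x.2.2 (entry_eq_zero hii hm hd x.2.2)
      rw [add_apply_succ (tv_mem_Uu hlt _) (Uw_le_Uu _ h1) hii, h2, add_zero, tv_apply_self hlt.ne]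
    refine ⟨fun x y hxy => ?_, fun v => ?_⟩
    · have hxy' : tv i i' x.1 * (r * (x.2 : SLn) * r⁻¹) = tv i i' y.1 * (r * (y.2 : SLn) * r⁻¹) :=
        congrArg Subtype.val hxy
      have h1 : x.1 = y.1 := by rw [← hentry x, hxy', hentry y]
      rw [h1, mul_right_inj, mul_left_inj, mul_right_inj] at hxy'
      exact Prod.ext h1 (Subtype.ext hxy')
    · set x : SLn := tv i i' ((v : SLn).1 i i') with hx
      have hxU : x ∈ Uw (r * m) := tv_mem_Uw_step hii hr hm hd _
      set w : SLn := x⁻¹ * (v : SLn) with hw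
      have hwU : w ∈ Uw (r * m) := (Uw (r * m)).mul_mem ((Uw (r * m)).inv_mem hxU) v.2
      have hw0 : w.1 i i' = 0 := by
        have e := add_apply_succ (tv_mem_Uu hlt ((v : SLn).1 i i')) (Uw_le_Uu _ hwU) hii
        rw [← hx, hw, mul_inv_cancel_left, hx, tv_apply_self hlt.ne] at e
        rw [hw, hx]
        exact left_eq_add.1 e
      have hr' : IsMono r⁻¹ (Equiv.swap i i') := by
        have := hr.inv; rwa [Equiv.swap_inv] at this
      obtain ⟨h1, -⟩ := conj_swap_mem_Uw hii hr' (hr.mul hm) hwU hw0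
      rw [inv_mul_cancel_left, inv_inv] at h1
      refine ⟨((v : SLn).1 i i', ⟨_, h1⟩), Subtype.ext ?_⟩
      show x * (r * (r⁻¹ * w * r) * r⁻¹) = v
      rw [hw]; group)

theorem card_step {r m : SLn} {σ : Equiv.Perm (Fin n)} {i i' : Fin n}
    (hii : (i : ℕ) + 1 = i') (hr : IsMono r (Equiv.swap i i')) (hm : IsMono m σ)
    (hd : ¬ σ⁻¹ i' < σ⁻¹ i) : Nat.card (Uw m) < Nat.card (Uw (r * m)) := by
  rw [← Nat.card_congr (stepEquiv hii hr hm hd), Nat.card_prod]
  exact lt_mul_of_one_lt_left Nat.card_pos (by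
    rw [Nat.card_eq_fintype_card]; exact Fintype.one_lt_card)

theorem eq_one_of_no_descent {σ : Equiv.Perm (Fin n)}
    (h : ∀ i i' : Fin n, (i : ℕ) + 1 = i' → ¬ σ⁻¹ i' < σ⁻¹ i) : σ = 1 := by
  have hmono : StrictMono ⇑σ⁻¹ := by
    have key : ∀ d (a b : Fin n), (a : ℕ) + d + 1 = b → σ⁻¹ a < σ⁻¹ b := by
      intro d
      induction d with
      | zero =>
        intro a b hab
        exact lt_of_le_of_ne (not_lt.1 (h a b (by omega)))
          ((σ⁻¹).injective.ne (by rw [Ne, Fin.ext_iff]; omega))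
      | succ d ih =>
        intro a b hab
        have hc : (a : ℕ) + d + 1 < n := by have := b.isLt; omega
        refine (ih a ⟨_, hc⟩ rfl).trans (lt_of_le_of_ne (not_lt.1 (h ⟨_, hc⟩ b ?_))
          ((σ⁻¹).injective.ne ?_))
        · show (a : ℕ) + d + 1 + 1 = b; omega
        · rw [Ne, Fin.ext_iff]; show ¬ (a : ℕ) + d + 1 = b; omega
    intro a b hab
    exact key ((b : ℕ) - a - 1) a b (by rw [Fin.lt_def] at hab; omega)
  have h1 : ⇑σ⁻¹ = (id : Fin n → Fin n) := (hmono.range_inj strictMono_id).1 (by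
    rw [Set.range_id]; exact (σ⁻¹).surjective.range_eq)
  rw [← inv_inv σ, show σ⁻¹ = 1 from Equiv.ext fun a => congrFun h1 a, inv_one]

/-- Induction along simple reflections. -/
theorem mono_induction (P : SLn → Equiv.Perm (Fin n) → Prop)
    (h1 : ∀ m, IsMono m 1 → P m 1)
    (hstep : ∀ (i i' : Fin n) (m : SLn) (σ : Equiv.Perm (Fin n)), (i : ℕ) + 1 = i' →
      IsMono m σ → ¬ σ⁻¹ i' < σ⁻¹ i → P m σ → P (sr i i' * m) (Equiv.swap i i' * σ)) :
    ∀ m σ, IsMono m σ → P m σ := by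
  suffices ∀ N m σ, IsMono m σ → Nat.card (Uw m) = N → P m σ from fun m σ hm => this _ m σ hm rfl
  intro N
  induction N using Nat.strong_induction_on with
  | _ N ih =>
    intro m σ hm hN
    by_cases hσ : σ = 1
    · subst hσ; exact h1 m hm
    · have hex : ∃ i i' : Fin n, (i : ℕ) + 1 = i' ∧ σ⁻¹ i' < σ⁻¹ i := by
        by_contra hno
        push Not at hno
        exact hσ (eq_one_of_no_descent fun i i' hii => (hno i i' hii).not_gt)
      obtain ⟨i, i', hii, hd⟩ := hex
      have hne : i ≠ i' := by rw [Ne, Fin.ext_iff]; omega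
      have hr : IsMono (sr i i' : SLn) (Equiv.swap i i') := isMono_wtv hne one_ne_zero
      set m' : SLn := (sr i i')⁻¹ * m with hm'
      have hm'σ : IsMono m' (Equiv.swap i i' * σ) := by
        have := hr.inv.mul hm; rwa [Equiv.swap_inv] at this
      have hd' : ¬ (Equiv.swap i i' * σ)⁻¹ i' < (Equiv.swap i i' * σ)⁻¹ i := by
        simpa using hd.le
      have hlt : Nat.card (Uw m') < N := by
        have := card_step hii hr hm'σ hd'
        rwa [hm', mul_inv_cancel_left, hN] at this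
      have := hstep i i' m' _ hii hm'σ hd' (ih _ hlt m' _ hm'σ rfl)
      rwa [hm', mul_inv_cancel_left, Equiv.swap_mul_self_mul] at this

/-- Lower unitriangular matrices and the simple reflections generate. -/
theorem eq_top_of_generators [Nontrivial (Fin n)] {H : Subgroup SLn} (hL : Ul K n ≤ H)
    (hs : ∀ i i' : Fin n, (i : ℕ) + 1 = i' → sr i i' ∈ H) : H = ⊤ := by
  have key : ∀ d (a b : Fin n), (a : ℕ) + d + 1 = b → ∀ t : K, tv a b t ∈ H := by
    intro d
    induction d with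
    | zero =>
      intro a b hab t
      have hne : a ≠ b := by rw [Ne, Fin.ext_iff]; omega
      have hr : IsMono (sr a b : SLn) (Equiv.swap a b) := isMono_wtv hne one_ne_zero
      obtain ⟨c, e⟩ := hr.exists_conj_tv hne.symm t
      rw [Equiv.swap_apply_right, Equiv.swap_apply_left] at e
      rw [← e]
      exact H.mul_mem (H.mul_mem (hs a b (by omega))
        (hL (tv_mem_Ul (by rw [Fin.lt_def]; omega) _))) (H.inv_mem (hs a b (by omega)))
    | succ d ih =>
      intro a b hab t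
      have hlt : (a : ℕ) + d + 1 < n := by have := b.isLt; omega
      set e' : Fin n := ⟨_, hlt⟩ with he'
      have he : (e' : ℕ) + 1 = b := by show (a : ℕ) + d + 1 + 1 = b; omega
      have hne : e' ≠ b := by rw [Ne, Fin.ext_iff]; omega
      have hae : a ≠ e' := by rw [Ne, Fin.ext_iff]; show ¬ (a : ℕ) = a + d + 1; omega
      have hab' : a ≠ b := by rw [Ne, Fin.ext_iff]; omega
      have hr : IsMono (sr e' b : SLn) (Equiv.swap e' b) := isMono_wtv hne one_ne_zero
      obtain ⟨c, e⟩ := hr.exists_conj_tv hae t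
      rw [Equiv.swap_apply_of_ne_of_ne hae hab', Equiv.swap_apply_left] at e
      rw [← e]
      exact H.mul_mem (H.mul_mem (hs e' b he) (ih a e' rfl _)) (H.inv_mem (hs e' b he))
  refine eq_top_iff.2 fun g _ => ?_
  refine CfsgLib.StSL.sl_induction (P := fun g => g ∈ H) (fun i j hij t => ?_)
    (fun _ _ => H.mul_mem) g
  rcases lt_or_gt_of_ne hij with h | h
  · exact key ((j : ℕ) - i - 1) i j (by rw [Fin.lt_def] at h; omega) t
  · exact hL (tv_mem_Ul h t)

end CfsgLib.SLDefining
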