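import Cfsg.Agent.Lib.CharApps.SLDefining.Cells
import Cfsg.Agent.Lib.Modular.SimpleRep

/-!
# The operators of the cells on the vectors fixed by `U`
-/

set_option autoImplicit false
set_option linter.unusedSectionVars false
set_option linter.style.haveILetI false

namespace CfsgLib.SLDefining

open Matrix Finset
open CfsgLib.StSL (tv tv_coe rel_tv)
open CfsgLib.Modular (IsInvar)

universe u v w

variable {K : Type u} [Field K] [Fintype K] {n : ℕ}
variable {k : Type v} [Field k] {W : Type w} [AddCommGroup W] [Module k W]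

local notation "SLn" => SpecialLinearGroup (Fin n) K

theorem tv_add {i j : Fin n} (h : i ≠ j) (a b : K) :
    (tv i j a * tv i j b : SLn) = tv i j (a + b) := rel_tv.add h a b

theorem rep_mul (ρ : Representation k SLn W) (a b : SLn) (y : W) : ρ (a * b) y = ρ a (ρ b y) := by
  rw [map_mul]; rfl

variable (ρ : Representation k (SpecialLinearGroup (Fin n) K) W)

/-- Fixed by the upper unitriangular matrices. -/
def FixU (y : W) : Prop := ∀ u ∈ Uu K n, ρ u y = y

/-- An eigenvector of the diagonal matrices. -/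
def EigT (y : W) : Prop := ∀ t : SLn, IsMono t 1 → ∃ c : k, ρ t y = c • y

/-- The operator of the cell of `m`. -/
noncomputable def Aw (m : SLn) : W →ₗ[k] W :=
  haveI := Fintype.ofFinite (Uw m)
  ∑ u : Uw m, ρ ((u : SLn) * m)

/-- The operator of a simple reflection. -/
noncomputable def As (i i' : Fin n) : W →ₗ[k] W := ∑ t : K, ρ (tv i i' t * sr i i')

theorem Aw_apply (m : SLn) [Fintype (Uw m)] (y : W) :
    Aw ρ m y = ∑ u : Uw m, ρ ((u : SLn) * m) y := by
  rw [Aw, LinearMap.sum_apply, Subsingleton.elim (Fintype.ofFinite (Uw m))]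

theorem As_apply (i i' : Fin n) (y : W) : As ρ i i' y = ∑ t : K, ρ (tv i i' t * sr i i') y := by
  rw [As, LinearMap.sum_apply]

theorem Aw_base {m : SLn} (hm : IsMono m 1) (y : W) : Aw ρ m y = ρ m y := by
  haveI := Fintype.ofFinite (Uw m)
  rw [Aw_apply, Finset.sum_eq_single (1 : Uw m)]
  · simp
  · intro b _ hb
    exfalso
    refine hb (Subtype.ext ?_)
    exact Subgroup.mem_bot.1 ((Uw_eq_bot hm).le b.2)
  · simp

theorem Aw_step {m : SLn} {σ : Equiv.Perm (Fin n)} {i i' : Fin n} (hii : (i : ℕ) + 1 = i')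
    (hm : IsMono m σ) (hd : ¬ σ⁻¹ i' < σ⁻¹ i) (y : W) :
    Aw ρ (sr i i' * m) y = As ρ i i' (Aw ρ m y) := by
  have hne : i ≠ i' := by rw [Ne, Fin.ext_iff]; omega
  have hr : IsMono (sr i i' : SLn) (Equiv.swap i i') := isMono_wtv hne one_ne_zero
  haveI := Fintype.ofFinite (Uw m)
  haveI := Fintype.ofFinite (Uw (sr i i' * m : SLn))
  rw [Aw_apply, As_apply, ← Equiv.sum_comp (stepEquiv hii hr hm hd), Fintype.sum_prod_type]
  refine Finset.sum_congr rfl fun t _ => ?_
  rw [Aw_apply, map_sum]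
  refine Finset.sum_congr rfl fun u _ => ?_
  rw [← rep_mul]
  congr 2
  show tv i i' t * (sr i i' * (u : SLn) * (sr i i')⁻¹) * (sr i i' * m) = _
  group

variable {ρ}

theorem fixU_As {i i' : Fin n} (hii : (i : ℕ) + 1 = i') {y : W} (hy : FixU ρ y) :
    FixU ρ (As ρ i i' y) := by
  intro u hu
  have hlt : i < i' := by rw [Fin.lt_def]; omega
  have hr : IsMono (sr i i' : SLn) (Equiv.swap i i') := isMono_wtv hlt.ne one_ne_zero
  have hr' : IsMono (sr i i' : SLn)⁻¹ (Equiv.swap i i') := by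
    have := hr.inv; rwa [Equiv.swap_inv] at this
  rw [As_apply, map_sum]
  refine Fintype.sum_equiv (Equiv.addLeft (u.1 i i')) _ _ fun t => ?_
  rw [Equiv.coe_addLeft, ← rep_mul]
  set x : SLn := tv i i' (u.1 i i' + t) with hx
  have hxU : x ∈ Uu K n := tv_mem_Uu hlt _
  set u0 : SLn := x⁻¹ * (u * tv i i' t) with hu0
  have hu0U : u0 ∈ Uu K n := (Uu K n).mul_mem ((Uu K n).inv_mem hxU)
    ((Uu K n).mul_mem hu (tv_mem_Uu hlt t))
  have h0 : u0.1 i i' = 0 := by
    have e := add_apply_succ hxU hu0U hii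
    rw [hu0, mul_inv_cancel_left, add_apply_succ hu (tv_mem_Uu hlt t) hii, tv_apply_self hlt.ne,
      hx, tv_apply_self hlt.ne] at e
    rw [hu0, hx]
    exact left_eq_add.1 e
  obtain ⟨h1, -⟩ := conj_swap_mem_Uu hii hr' hu0U h0
  rw [show u * (tv i i' t * sr i i') = x * sr i i' * ((sr i i')⁻¹ * u0 * (sr i i')⁻¹⁻¹) by
    rw [hu0]; group, rep_mul, hy _ h1]

theorem eigT_As {i i' : Fin n} (hii : (i : ℕ) + 1 = i') {y : W} (hy : EigT ρ y) :
    EigT ρ (As ρ i i' y) := by
  intro t ht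
  have hne : i ≠ i' := by rw [Ne, Fin.ext_iff]; omega
  have hr : IsMono (sr i i' : SLn) (Equiv.swap i i') := isMono_wtv hne one_ne_zero
  obtain ⟨c, hc⟩ := hy ((sr i i')⁻¹ * t * sr i i') (by
    have := (hr.inv.mul ht).mul hr
    rwa [mul_one, inv_mul_cancel] at this)
  refine ⟨c, ?_⟩
  rw [As_apply, map_sum, Finset.smul_sum]
  have ha : t.1 i i / t.1 i' i' ≠ 0 :=
    div_ne_zero (by simpa using ht.apply_ne_zero i) (by simpa using ht.apply_ne_zero i')
  refine Fintype.sum_equiv (Equiv.mulLeft₀ _ ha) _ _ fun b => ?_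
  have e := ht.conj_tv hne b
  simp only [Equiv.Perm.coe_one, id] at e
  rw [show (Equiv.mulLeft₀ _ ha) b = t.1 i i / t.1 i' i' * b from rfl, ← rep_mul, show t.1 i i / t.1 i' i' * b = t.1 i i * b / t.1 i' i' from
    div_mul_eq_mul_div _ _ _, ← e,
    show t * (tv i i' b * sr i i') =
      t * tv i i' b * t⁻¹ * sr i i' * ((sr i i')⁻¹ * t * sr i i') by group,
    rep_mul, hc, map_smul]

theorem fixU_eigT_Aw {y : W} (hy : FixU ρ y) (hy' : EigT ρ y) :
    ∀ (m : SLn) (σ : Equiv.Perm (Fin n)), IsMono m σ →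
      FixU ρ (Aw ρ m y) ∧ EigT ρ (Aw ρ m y) := by
  refine mono_induction (fun m _ => FixU ρ (Aw ρ m y) ∧ EigT ρ (Aw ρ m y)) (fun m hm => ?_)
    fun i i' m σ hii hm hd ih => ?_
  · obtain ⟨c, hc⟩ := hy' m hm
    rw [Aw_base ρ hm, hc]
    refine ⟨fun u hu => by rw [map_smul, hy u hu], fun t ht => ?_⟩
    obtain ⟨c', hc'⟩ := hy' t ht
    exact ⟨c', by rw [map_smul, hc', smul_comm]⟩
  · rw [Aw_step ρ hii hm hd]
    exact ⟨fixU_As hii ih.1, eigT_As hii ih.2⟩

open scoped _root_.Classical in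
/-- The quadratic relation. -/
theorem As_As {i i' : Fin n} (hii : (i : ℕ) + 1 = i') (hq : (Fintype.card K : k) = 0) {y : W}
    (hy : FixU ρ y) (μ : K → k) (hμ : ∀ d : K, d ≠ 0 → ρ (hd i i' d) y = μ d • y) :
    As ρ i i' (As ρ i i' y) =
      (∑ b ∈ univ.filter (fun b : K => b ≠ 0), μ (-b)) • As ρ i i' y := by
  have hlt : i < i' := by rw [Fin.lt_def]; omega
  rw [As_apply ρ i i' (As ρ i i' y)]
  simp only [As_apply ρ i i' y, map_sum, ← rep_mul]
  rw [Finset.sum_comm, ← Finset.sum_filter_add_sum_filter_not univ (fun b : K => b ≠ 0),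
    Finset.sum_smul]
  have h0 : ∑ b ∈ univ.filter (fun b : K => ¬ b ≠ 0),
      ∑ t : K, ρ (tv i i' t * sr i i' * (tv i i' b * sr i i')) y = 0 := by
    rw [Finset.sum_eq_single (0 : K) (fun b hb hb0 => absurd (by simpa using hb) hb0) (by simp)]
    rw [Finset.sum_congr rfl fun t _ => show
      ρ (tv i i' t * sr i i' * (tv i i' (0 : K) * sr i i')) y = μ (-1) • y by
        rw [rel_tv.zero hlt.ne, one_mul, mul_assoc, sr_sq hlt.ne, rep_mul,
          hμ _ (neg_ne_zero.2 one_ne_zero), map_smul, hy _ (tv_mem_Uu hlt t)]]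
    rw [Finset.sum_const, Finset.card_univ, ← Nat.cast_smul_eq_nsmul k, hq, zero_smul]
  rw [h0, add_zero]
  refine Finset.sum_congr rfl fun b hb => ?_
  have hb0 : b ≠ 0 := (Finset.mem_filter.1 hb).2
  rw [Finset.smul_sum]
  refine Fintype.sum_equiv (Equiv.addRight (-b⁻¹)) _ _ fun t => ?_
  rw [Equiv.coe_addRight, show tv i i' t * sr i i' * (tv i i' b * sr i i') =
      tv i i' t * (sr i i' * tv i i' b * sr i i') by group, sr_tv_sr hlt.ne hb0,
    show tv i i' t * (tv i i' (-b⁻¹) * sr i i' * hd i i' (-b) * tv i i' (-b⁻¹)) =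
      tv i i' t * tv i i' (-b⁻¹) * sr i i' * hd i i' (-b) * tv i i' (-b⁻¹) by group,
    tv_add hlt.ne, rep_mul, hy _ (tv_mem_Uu hlt _), rep_mul, hμ _ (neg_ne_zero.2 hb0), map_smul]

theorem add_apply_pred {a b : SLn} (ha : a ∈ Ul K n) (hb : b ∈ Ul K n) {i i' : Fin n}
    (hii : (i : ℕ) + 1 = i') : (a * b).1 i' i = a.1 i' i + b.1 i' i := by
  have hlt : i < i' := by rw [Fin.lt_def]; omega
  rw [val_mul, Matrix.mul_apply, ← Finset.sum_subset (s₁ := {i, i'}) (Finset.subset_univ _)]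
  · rw [Finset.sum_pair hlt.ne, hb i i le_rfl, ha i' i' le_rfl, Matrix.one_apply_eq,
      Matrix.one_apply_eq]
    ring
  · intro j _ hj
    simp only [Finset.mem_insert, Finset.mem_singleton, not_or] at hj
    rcases lt_or_gt_of_ne hj.1 with h | h
    · rw [hb j i h.le, Matrix.one_apply_ne hj.1, mul_zero]
    · have h' : i' ≤ j := by rw [Fin.le_def]; rw [Fin.lt_def] at h; omega
      rw [ha i' j h', Matrix.one_apply_ne (Ne.symm hj.2), zero_mul]

theorem conj_swap_mem_Ul {r u : SLn} {i i' : Fin n} (hii : (i : ℕ) + 1 = i')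
    (hr : IsMono r (Equiv.swap i i')) (hu : u ∈ Ul K n) (h0 : u.1 i' i = 0) :
    r * u * r⁻¹ ∈ Ul K n := by
  intro a b hab
  obtain ⟨a, rfl⟩ := (Equiv.swap i i').surjective a
  obtain ⟨b, rfl⟩ := (Equiv.swap i i').surjective b
  have e := hr.conj_apply u a b
  by_cases h : a = b
  · subst h
    rw [hu a a le_rfl, Matrix.one_apply_eq, mul_one] at e
    rw [Matrix.one_apply_eq]
    exact (mul_eq_right₀ (hr.apply_ne_zero a)).1 e
  · rw [Matrix.one_apply_ne ((Equiv.swap i i').injective.ne h), hr.conj_eq_zero_iff]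
    rcases lt_or_gt_of_ne h with hlt' | hgt
    · rw [hu a b hlt'.le, Matrix.one_apply_ne h]
    · have : a = i' ∧ b = i := by
        simp only [Equiv.swap_apply_def] at hab
        split_ifs at hab <;> constructor <;> simp only [Fin.le_def, Fin.lt_def, Fin.ext_iff] at * <;>
          omega
      rw [this.1, this.2, h0]

variable (ρ)

/-- The span of the translates of a vector by the lower unitriangular matrices. -/
def lowSpan (v : W) : Submodule k W :=
  Submodule.span k (Set.range fun x : Ul K n => ρ (x : SLn) v)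

variable {ρ}

/-- The span of an eigenvector of the operators is stable. -/
theorem lowSpan_invar [Nontrivial (Fin n)] {v : W} (hv : FixU ρ v)
    (hA : ∀ i i' : Fin n, (i : ℕ) + 1 = i' → ∃ c : k, As ρ i i' v = c • v)
    (hh : ∀ i i' : Fin n, (i : ℕ) + 1 = i' → ∀ d : K, d ≠ 0 → ∃ c : k, ρ (hd i i' d) v = c • v) :
    IsInvar ρ (lowSpan ρ v) := by
  classical
  have hgen : ∀ x : SLn, x ∈ Ul K n → ρ x v ∈ lowSpan ρ v := fun x hx =>
    Submodule.subset_span ⟨⟨x, hx⟩, rfl⟩
  let H : Subgroup SLn := subgroupOfClosed {g | ∀ y ∈ lowSpan ρ v, ρ g y ∈ lowSpan ρ v}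
    (fun y hy => by rw [map_one]; exact hy) fun a ha b hb y hy => by
      rw [rep_mul]; exact ha _ (hb y hy)
  have hspan : ∀ g : SLn, (∀ x, x ∈ Ul K n → ρ g (ρ x v) ∈ lowSpan ρ v) → g ∈ H := by
    intro g h y hy
    have hle : lowSpan ρ v ≤ (lowSpan ρ v).comap (ρ g) :=
      Submodule.span_le.2 (by rintro _ ⟨x, rfl⟩; exact h x x.2)
    exact hle hy
  have hH : H = ⊤ := by
    refine eq_top_of_generators (fun g hg => hspan g fun x hx => ?_) fun i i' hii => hspan _ ?_
    · rw [← rep_mul]; exact hgen _ ((Ul K n).mul_mem hg hx)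
    intro x hx
    have hlt : i < i' := by rw [Fin.lt_def]; omega
    have hr : IsMono (sr i i' : SLn) (Equiv.swap i i') := isMono_wtv hlt.ne one_ne_zero
    have hx0 : ∀ b : K, b ≠ 0 → ρ (tv i i' b * sr i i') v ∈ lowSpan ρ v := by
      intro b hb
      obtain ⟨c, hc⟩ := hh i i' hii (-b) (neg_ne_zero.2 hb)
      rw [tv_sr hlt.ne hb, rep_mul, hv _ (tv_mem_Uu hlt _), rep_mul, hc, map_smul]
      exact Submodule.smul_mem _ _ (hgen _ (tv_mem_Ul hlt _))
    have hxall : ∀ b : K, ρ (tv i i' b * sr i i') v ∈ lowSpan ρ v := by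
      intro b
      by_cases hb : b = 0
      · subst hb
        obtain ⟨c, hc⟩ := hA i i' hii
        rw [As_apply, ← Finset.add_sum_erase _ _ (Finset.mem_univ (0 : K))] at hc
        rw [eq_sub_of_add_eq hc]
        exact sub_mem (Submodule.smul_mem _ _ (by simpa using hgen 1 (Ul K n).one_mem))
          (sum_mem fun b hb => hx0 b (Finset.ne_of_mem_erase hb))
      · exact hx0 b hb
    set x1 : SLn := x * tv i' i (-(x.1 i' i)) with hx1
    have hx1U : x1 ∈ Ul K n := (Ul K n).mul_mem hx (tv_mem_Ul hlt _)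
    have h10 : x1.1 i' i = 0 := by
      rw [hx1, add_apply_pred hx (tv_mem_Ul hlt _) hii, tv_apply_self hlt.ne', add_neg_cancel]
    have hy := conj_swap_mem_Ul hii hr hx1U h10
    have e := hr.conj_tv hlt.ne' (x.1 i' i)
    rw [Equiv.swap_apply_right, Equiv.swap_apply_left] at e
    have e2 : sr i i' * x = sr i i' * x1 * (sr i i')⁻¹ *
        (sr i i' * tv i' i (x.1 i' i) * (sr i i')⁻¹ * sr i i') := by
      rw [hx1, show sr i i' * (x * tv i' i (-(x.1 i' i))) * (sr i i')⁻¹ *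
          (sr i i' * tv i' i (x.1 i' i) * (sr i i')⁻¹ * sr i i') =
        sr i i' * (x * (tv i' i (-(x.1 i' i)) * tv i' i (x.1 i' i))) by group,
        tv_add hlt.ne', neg_add_cancel, rel_tv.zero hlt.ne', mul_one]
    rw [← rep_mul, e2, rep_mul, e]
    have hle : lowSpan ρ v ≤ (lowSpan ρ v).comap (ρ (sr i i' * x1 * (sr i i')⁻¹)) :=
      Submodule.span_le.2 (by
        rintro _ ⟨z, rfl⟩
        show ρ _ (ρ (z : SLn) v) ∈ lowSpan ρ v
        rw [← rep_mul]
        exact hgen _ ((Ul K n).mul_mem hy z.2))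
    exact hle (hxall _)
  intro g y hy
  exact (hH ▸ Subgroup.mem_top g : g ∈ H) y hy

end CfsgLib.SLDefining
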