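import Cfsg.Agent.Lib.StSL.Rel

/-!
# Monomial elements and unitriangular subgroups of `SL_n`
-/

set_option autoImplicit false
set_option linter.unusedSectionVars false
set_option linter.style.haveILetI false

namespace CfsgLib.SLDefining

open Matrix Finset
open CfsgLib.StSL (tv tv_coe tv_mulVec sl_ext mul_mulVec')

universe u

variable {K : Type u} [Field K] {n : ℕ}

local notation "SLn" => SpecialLinearGroup (Fin n) K

theorem val_mul (a b : SLn) : (a * b).1 = a.1 * b.1 := rfl

theorem val_one : (1 : SLn).1 = 1 := rfl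

/-- A monomial element with a given permutation. -/
def IsMono (m : SLn) (σ : Equiv.Perm (Fin n)) : Prop := ∀ i j, m.1 i j ≠ 0 → i = σ j

theorem IsMono.apply_eq_zero {m : SLn} {σ : Equiv.Perm (Fin n)} (h : IsMono m σ) {i j : Fin n}
    (hij : i ≠ σ j) : m.1 i j = 0 := by
  by_contra h0; exact hij (h i j h0)

theorem IsMono.apply_ne_zero {m : SLn} {σ : Equiv.Perm (Fin n)} (h : IsMono m σ) (j : Fin n) :
    m.1 (σ j) j ≠ 0 := by
  intro h0
  refine one_ne_zero (α := K) (m.2.symm.trans (Matrix.det_eq_zero_of_column_eq_zero j fun i => ?_))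
  by_cases hi : i = σ j
  · rw [hi, h0]
  · exact h.apply_eq_zero hi

theorem IsMono.mul_apply {m : SLn} {σ : Equiv.Perm (Fin n)} (h : IsMono m σ) (g : SLn)
    (j k : Fin n) : (m * g).1 (σ j) k = m.1 (σ j) j * g.1 j k := by
  rw [val_mul, Matrix.mul_apply, Finset.sum_eq_single j]
  · intro b _ hb
    rw [h.apply_eq_zero fun e => hb (σ.injective e).symm, zero_mul]
  · simp

theorem IsMono.apply_mul {m : SLn} {σ : Equiv.Perm (Fin n)} (h : IsMono m σ) (g : SLn)
    (i k : Fin n) : (g * m).1 i k = g.1 i (σ k) * m.1 (σ k) k := by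
  rw [val_mul, Matrix.mul_apply, Finset.sum_eq_single (σ k)]
  · intro b _ hb
    rw [h.apply_eq_zero hb, mul_zero]
  · simp

theorem IsMono.conj_apply {m : SLn} {σ : Equiv.Perm (Fin n)} (h : IsMono m σ) (g : SLn)
    (j k : Fin n) :
    (m * g * m⁻¹).1 (σ j) (σ k) * m.1 (σ k) k = m.1 (σ j) j * g.1 j k := by
  rw [← h.apply_mul, inv_mul_cancel_right, h.mul_apply]

theorem IsMono.conj_eq_zero_iff {m : SLn} {σ : Equiv.Perm (Fin n)} (h : IsMono m σ) (g : SLn)
    (j k : Fin n) : (m * g * m⁻¹).1 (σ j) (σ k) = 0 ↔ g.1 j k = 0 := by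
  have e := h.conj_apply g j k
  constructor
  · intro h0
    rw [h0, zero_mul] at e
    exact (mul_eq_zero.1 e.symm).resolve_left (h.apply_ne_zero j)
  · intro h0
    rw [h0, mul_zero] at e
    exact (mul_eq_zero.1 e).resolve_right (h.apply_ne_zero k)

theorem IsMono.mul {m m' : SLn} {σ τ : Equiv.Perm (Fin n)} (h : IsMono m σ) (h' : IsMono m' τ) :
    IsMono (m * m') (σ * τ) := fun i j hij => by
  rw [h'.apply_mul] at hij
  exact h i (τ j) (left_ne_zero_of_mul hij)

theorem isMono_one : IsMono (1 : SLn) 1 := fun i j hij => by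
  by_contra h
  exact hij (by rw [val_one, Matrix.one_apply_ne (show i ≠ j from h)])

theorem IsMono.inv {m : SLn} {σ : Equiv.Perm (Fin n)} (h : IsMono m σ) : IsMono m⁻¹ σ⁻¹ := by
  intro i k hik
  have e := h.mul_apply m⁻¹ i k
  rw [mul_inv_cancel, val_one] at e
  by_contra hne
  rw [Matrix.one_apply_ne (fun e' => hne (by rw [← e']; simp))] at e
  exact hik ((mul_eq_zero.1 e.symm).resolve_left (h.apply_ne_zero i))

theorem IsMono.unique {m : SLn} {σ τ : Equiv.Perm (Fin n)} (h : IsMono m σ) (h' : IsMono m τ) :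
    σ = τ := Equiv.ext fun j => h' _ _ (h.apply_ne_zero j)

theorem IsMono.conj_tv {m : SLn} {σ : Equiv.Perm (Fin n)} (h : IsMono m σ) {a b : Fin n}
    (hab : a ≠ b) (t : K) :
    m * tv a b t * m⁻¹ = tv (σ a) (σ b) (m.1 (σ a) a * t / m.1 (σ b) b) := by
  have hab' : σ a ≠ σ b := σ.injective.ne hab
  refine Subtype.ext (Matrix.ext fun i l => ?_)
  obtain ⟨j, rfl⟩ := σ.surjective i
  obtain ⟨k, rfl⟩ := σ.surjective l
  have e := h.conj_apply (tv a b t) j k
  rw [← eq_div_iff (h.apply_ne_zero k)] at e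
  rw [e, tv_coe hab, tv_coe hab', Matrix.transvection, Matrix.transvection, Matrix.add_apply,
    Matrix.add_apply, Matrix.one_apply, Matrix.one_apply, Matrix.single_apply, Matrix.single_apply]
  simp only [EmbeddingLike.apply_eq_iff_eq]
  by_cases h1 : a = j ∧ b = k
  · obtain ⟨rfl, rfl⟩ := h1
    simp [hab]
  · rw [if_neg h1, if_neg h1]
    by_cases h2 : j = k
    · subst h2; simp [h.apply_ne_zero j]
    · simp [h2]

theorem IsMono.exists_conj_tv {m : SLn} {σ : Equiv.Perm (Fin n)} (h : IsMono m σ) {a b : Fin n}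
    (hab : a ≠ b) (t : K) : ∃ s, m * tv a b s * m⁻¹ = tv (σ a) (σ b) t := by
  refine ⟨t * m.1 (σ b) b / m.1 (σ a) a, ?_⟩
  rw [h.conj_tv hab, mul_div_cancel₀ _ (h.apply_ne_zero a), mul_div_assoc,
    div_self (h.apply_ne_zero b), mul_one]

/-- The monomial element of a pair of indices. -/
def wtv (p q : Fin n) (d : K) : SLn := tv p q d * tv q p (-d⁻¹) * tv p q d

theorem wtv_mulVec {p q : Fin n} (h : p ≠ q) {d : K} (hd : d ≠ 0) (v : Fin n → K) :
    (wtv p q d).1 *ᵥ v = fun k => if k = p then d * v q else if k = q then -(v p / d) else v k := by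
  funext k
  simp only [wtv, mul_mulVec', tv_mulVec h, tv_mulVec h.symm]
  by_cases hp : k = p
  · subst hp; simp [h.symm, h]; field_simp; ring
  · by_cases hq : k = q
    · subst hq; simp [h.symm, hp]; field_simp; ring
    · simp [hp, hq]

theorem isMono_of_mulVec {m : SLn} {σ : Equiv.Perm (Fin n)}
    (h : ∀ j i, i ≠ σ j → (m.1 *ᵥ Pi.single j 1) i = 0) : IsMono m σ := fun i j hij => by
  by_contra hne
  refine hij ?_
  have := h j i hne
  rwa [Matrix.mulVec_single_one, Matrix.col_apply] at this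

theorem isMono_wtv {p q : Fin n} (h : p ≠ q) {d : K} (hd : d ≠ 0) :
    IsMono (wtv p q d) (Equiv.swap p q) := isMono_of_mulVec fun j i hi => by
  rw [wtv_mulVec h hd]
  by_cases hp : i = p
  · subst hp
    have : j ≠ q := fun e => hi (by rw [e, Equiv.swap_apply_right])
    simp [this.symm]
  · by_cases hq : i = q
    · subst hq
      have : j ≠ p := fun e => hi (by rw [e, Equiv.swap_apply_left])
      simp [hp, this.symm]
    · have : i ≠ j := fun e => hi (by
        subst e; rw [Equiv.swap_apply_of_ne_of_ne hp hq])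
      simp [hp, hq, this]

theorem exists_mono (σ : Equiv.Perm (Fin n)) : ∃ m : SLn, IsMono m σ := by
  induction σ using Equiv.Perm.swap_induction_on with
  | one => exact ⟨1, isMono_one⟩
  | swap_mul f x y hxy ih =>
    obtain ⟨m, hm⟩ := ih
    exact ⟨_, (isMono_wtv hxy one_ne_zero).mul hm⟩

/-- The reflection of a pair. -/
def sr (p q : Fin n) : SLn := wtv p q 1

/-- The coroot element of a pair. -/
def hd (p q : Fin n) (d : K) : SLn := wtv p q d * wtv p q (-1)

theorem hd_mulVec {p q : Fin n} (h : p ≠ q) {d : K} (hd0 : d ≠ 0) (v : Fin n → K) :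
    (hd p q d).1 *ᵥ v = fun k => if k = p then d * v p else if k = q then v q / d else v k := by
  funext k
  rw [hd, mul_mulVec', wtv_mulVec h hd0, wtv_mulVec h (neg_ne_zero.2 one_ne_zero)]
  by_cases hp : k = p
  · subst hp; simp [h.symm, div_neg]
  · by_cases hq : k = q
    · subst hq; simp [hp]; ring
    · simp [hp, hq]

theorem isMono_hd {p q : Fin n} (h : p ≠ q) {d : K} (hd0 : d ≠ 0) : IsMono (hd p q d) 1 := by
  have := (isMono_wtv h hd0).mul (isMono_wtv (K := K) h (neg_ne_zero.2 one_ne_zero))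
  rwa [Equiv.swap_mul_self] at this

theorem hd_mul {p q : Fin n} (h : p ≠ q) {d e : K} (hd0 : d ≠ 0) (he : e ≠ 0) :
    hd p q d * hd p q e = hd p q (d * e) := sl_ext fun v => by
  funext k
  rw [mul_mulVec', hd_mulVec h hd0, hd_mulVec h he, hd_mulVec h (mul_ne_zero hd0 he)]
  by_cases hp : k = p
  · subst hp; simp; ring
  · by_cases hq : k = q
    · subst hq; simp [hp]; rw [div_div, mul_comm e]
    · simp [hp, hq]

theorem hd_one {p q : Fin n} (h : p ≠ q) : hd p q (1 : K) = 1 := sl_ext fun v => by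
  funext k
  rw [hd_mulVec h one_ne_zero, val_one, Matrix.one_mulVec]
  by_cases hp : k = p
  · subst hp; simp
  · by_cases hq : k = q
    · subst hq; simp [hp]
    · simp [hp, hq]

theorem sr_sq {p q : Fin n} (h : p ≠ q) : sr p q * sr p q = hd p q (-1 : K) := sl_ext fun v => by
  funext k
  rw [sr, mul_mulVec', wtv_mulVec h one_ne_zero, wtv_mulVec h one_ne_zero,
    hd_mulVec h (neg_ne_zero.2 one_ne_zero)]
  by_cases hp : k = p
  · subst hp; simp [h.symm, h]
  · by_cases hq : k = q
    · subst hq; simp [hp]; ring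
    · simp [hp, hq]

theorem sr_tv_sr {p q : Fin n} (h : p ≠ q) {b : K} (hb : b ≠ 0) :
    sr p q * tv p q b * sr p q =
      tv p q (-b⁻¹) * sr p q * hd p q (-b) * tv p q (-b⁻¹) := sl_ext fun v => by
  funext k
  simp only [sr, mul_mulVec', tv_mulVec h, wtv_mulVec h one_ne_zero,
    hd_mulVec h (neg_ne_zero.2 hb), Pi.add_apply]
  by_cases hp : k = p
  · subst hp; simp [h.symm, h]; field_simp; ring
  · by_cases hq : k = q
    · subst hq; simp [hp]; field_simp
    · simp [hp, hq]

theorem tv_sr {p q : Fin n} (h : p ≠ q) {b : K} (hb : b ≠ 0) :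
    tv p q b * sr p q = tv q p b⁻¹ * hd p q (-b) * tv p q (-b⁻¹) := sl_ext fun v => by
  funext k
  simp only [sr, mul_mulVec', tv_mulVec h, tv_mulVec h.symm, wtv_mulVec h one_ne_zero,
    hd_mulVec h (neg_ne_zero.2 hb), Pi.add_apply]
  by_cases hp : k = p
  · subst hp; simp [h.symm, h]; field_simp; ring
  · by_cases hq : k = q
    · subst hq; simp [hp]; field_simp; ring_nf
    · simp [hp, hq]

variable [Fintype K]

/-- A set of matrices closed under products is a subgroup. -/
def subgroupOfClosed (S : Set SLn) (h1 : (1 : SLn) ∈ S) (hmul : ∀ a ∈ S, ∀ b ∈ S, a * b ∈ S) :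
    Subgroup SLn where
  carrier := S
  one_mem' := h1
  mul_mem' ha hb := hmul _ ha _ hb
  inv_mem' {a} ha := by
    let M : Submonoid SLn := ⟨⟨S, fun ha hb => hmul _ ha _ hb⟩, h1⟩
    have ha' : a ∈ M := ha
    have : a⁻¹ = a ^ (orderOf a - 1) := inv_eq_of_mul_eq_one_right (by
      rw [← pow_succ', Nat.sub_add_cancel (orderOf_pos a), pow_orderOf_eq_one])
    show a⁻¹ ∈ M
    rw [this]
    exact pow_mem ha' _

variable (K n)

/-- Upper unitriangular matrices. -/
def Uu : Subgroup SLn := subgroupOfClosed {g | ∀ i j, j ≤ i → g.1 i j = (1 : Matrix (Fin n) (Fin n) K) i j}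
  (fun _ _ _ => by rw [val_one])
  fun a ha b hb i j hij => by
    rw [val_mul, Matrix.mul_apply, Finset.sum_eq_single i]
    · rw [ha i i le_rfl, Matrix.one_apply_eq, one_mul, hb i j hij]
    · intro k _ hk
      rcases lt_or_gt_of_ne hk with hlt | hgt
      · rw [ha i k hlt.le, Matrix.one_apply_ne hk.symm, zero_mul]
      · rw [hb k j (hij.trans hgt.le), Matrix.one_apply_ne (hij.trans_lt hgt).ne', mul_zero]
    · simp

/-- Lower unitriangular matrices. -/
def Ul : Subgroup SLn := subgroupOfClosed {g | ∀ i j, i ≤ j → g.1 i j = (1 : Matrix (Fin n) (Fin n) K) i j}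
  (fun _ _ _ => by rw [val_one])
  fun a ha b hb i j hij => by
    rw [val_mul, Matrix.mul_apply, Finset.sum_eq_single i]
    · rw [ha i i le_rfl, Matrix.one_apply_eq, one_mul, hb i j hij]
    · intro k _ hk
      rcases lt_or_gt_of_ne hk with hlt | hgt
      · rw [hb k j (hlt.le.trans hij), Matrix.one_apply_ne (hlt.trans_le hij).ne, mul_zero]
      · rw [ha i k hgt.le, Matrix.one_apply_ne hk.symm, zero_mul]
    · simp

/-- Upper triangular matrices. -/
def Bo : Subgroup SLn := subgroupOfClosed {g | ∀ i j, j < i → g.1 i j = 0}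
  (fun _ _ hij => by rw [val_one, Matrix.one_apply_ne hij.ne'])
  fun a ha b hb i j hij => by
    rw [val_mul, Matrix.mul_apply]
    refine Finset.sum_eq_zero fun k _ => ?_
    rcases lt_or_ge k i with hki | hik
    · rw [ha i k hki, zero_mul]
    · rw [hb k j (hij.trans_le hik), mul_zero]

variable {K n}

theorem mem_Uu {g : SLn} :
    g ∈ Uu K n ↔ ∀ i j, j ≤ i → g.1 i j = (1 : Matrix (Fin n) (Fin n) K) i j := Iff.rfl

theorem mem_Ul {g : SLn} :
    g ∈ Ul K n ↔ ∀ i j, i ≤ j → g.1 i j = (1 : Matrix (Fin n) (Fin n) K) i j := Iff.rfl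

theorem mem_Bo {g : SLn} : g ∈ Bo K n ↔ ∀ i j, j < i → g.1 i j = 0 := Iff.rfl

theorem Uu_le_Bo : Uu K n ≤ Bo K n := fun g hg i j hij => by
  rw [hg i j hij.le, Matrix.one_apply_ne hij.ne']

theorem eq_one_of_Uu_Ul {g : SLn} (h : g ∈ Uu K n) (h' : g ∈ Ul K n) : g = 1 :=
  Subtype.ext (Matrix.ext fun i j => by
    rw [val_one]
    rcases le_total i j with hij | hij
    exacts [h' i j hij, h i j hij])

theorem tv_mem_Uu {i j : Fin n} (h : i < j) (t : K) : tv i j t ∈ Uu K n := fun a b hab => by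
  rw [tv_coe h.ne, Matrix.transvection, Matrix.add_apply, Matrix.single_apply, if_neg, add_zero]
  rintro ⟨rfl, rfl⟩
  exact absurd hab h.not_ge

theorem tv_mem_Ul {i j : Fin n} (h : j < i) (t : K) : tv i j t ∈ Ul K n := fun a b hab => by
  rw [tv_coe h.ne', Matrix.transvection, Matrix.add_apply, Matrix.single_apply, if_neg, add_zero]
  rintro ⟨rfl, rfl⟩
  exact absurd hab h.not_ge

theorem mem_Bo_of_isMono_one {t : SLn} (ht : IsMono t 1) : t ∈ Bo K n := fun _ _ hij =>
  ht.apply_eq_zero hij.ne'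

theorem isMono_eq_one_of_mem_Bo {m : SLn} {σ : Equiv.Perm (Fin n)} (h : IsMono m σ)
    (hB : m ∈ Bo K n) : σ = 1 := by
  have hle : ∀ j, σ j ≤ j := fun j => not_lt.1 fun hlt => h.apply_ne_zero j (hB _ _ hlt)
  ext j
  induction j using WellFoundedLT.induction with
  | _ j ih =>
    rcases (hle j).lt_or_eq with hlt | heq
    · exact absurd (σ.injective (Fin.ext (ih _ hlt))) hlt.ne
    · rw [heq]; rfl

theorem conj_mem_Uu_of_isMono_one {t u : SLn} (ht : IsMono t 1) (hu : u ∈ Uu K n) :
    t * u * t⁻¹ ∈ Uu K n := fun i j hij => by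
  have e := ht.conj_apply u i j
  simp only [Equiv.Perm.coe_one, id] at e
  rw [hu i j hij] at e
  by_cases h : i = j
  · subst h
    rw [Matrix.one_apply_eq, mul_one] at e
    rw [Matrix.one_apply_eq]
    exact (mul_eq_right₀ (ht.apply_ne_zero i)).1 e
  · rw [Matrix.one_apply_ne h, mul_zero] at e
    rw [Matrix.one_apply_ne h]
    exact (mul_eq_zero.1 e).resolve_right (ht.apply_ne_zero j)

theorem conj_mem_Ul_of_isMono_one {t u : SLn} (ht : IsMono t 1) (hu : u ∈ Ul K n) :
    t * u * t⁻¹ ∈ Ul K n := fun i j hij => by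
  have e := ht.conj_apply u i j
  simp only [Equiv.Perm.coe_one, id] at e
  rw [hu i j hij] at e
  by_cases h : i = j
  · subst h
    rw [Matrix.one_apply_eq, mul_one] at e
    rw [Matrix.one_apply_eq]
    exact (mul_eq_right₀ (ht.apply_ne_zero i)).1 e
  · rw [Matrix.one_apply_ne h, mul_zero] at e
    rw [Matrix.one_apply_ne h]
    exact (mul_eq_zero.1 e).resolve_right (ht.apply_ne_zero j)

end CfsgLib.SLDefining
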