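import Cfsg.Agent.Lib.CharApps.SLDefining.Steinberg

/-!
# The Steinberg module is simple and a trace
-/

set_option autoImplicit false
set_option linter.unusedSectionVars false
set_option linter.style.haveILetI false

namespace CfsgLib.SLDefining

open Matrix Finset
open CfsgLib.StSL (tv tv_coe rel_tv)
open CfsgLib.Modular (IsInvar IsSimpleRep subRep)

universe u v

variable {K : Type u} [Field K] [Fintype K] {n : ℕ}
variable {k : Type v} [Field k] {p : ℕ} [Fact p.Prime] [CharP k p] [CharP K p]

local notation "SLn" => SpecialLinearGroup (Fin n) K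
local notation "Pts" => SpecialLinearGroup (Fin n) K ⧸ Bo K n

theorem linearIndependent_est : LinearIndependent k
    fun u : Uu K n => pr K n k (u : SLn) (est K n k) := by
  classical
  haveI := Fintype.ofFinite (Uu K n)
  obtain ⟨m0, hm0⟩ := exists_mono (K := K) (n := n) Fin.revPerm
  rw [Fintype.linearIndependent_iff]
  intro a ha u
  have h := congrFun ha (QuotientGroup.mk ((u : SLn) * m0))
  rw [Finset.sum_apply, Finset.sum_eq_single u] at h
  · rw [Pi.smul_apply, pr_apply, MulAction.Quotient.smul_coe, smul_eq_mul, smul_eq_mul,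
      inv_mul_cancel_left,
      show m0 = (1 : SLn) * m0 from (one_mul m0).symm,
      ((est_eval (k := k) hm0 (Uu K n).one_mem).1 rfl), Pi.zero_apply] at h
    exact (mul_eq_zero.1 h).resolve_right (sg_ne_zero _)
  · intro b _ hb
    rw [Pi.smul_apply, pr_apply, MulAction.Quotient.smul_coe, smul_eq_mul, smul_eq_mul, ← mul_assoc,
      (est_eval (k := k) hm0 ((Uu K n).mul_mem ((Uu K n).inv_mem b.2) u.2)).2
        (fun e => hb (Subtype.ext (inv_mul_eq_one.1 e))), mul_zero]
  · simp

theorem finrank_stMod : Module.finrank k (stMod K n k) = Nat.card (Uu K n) := by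
  haveI := Fintype.ofFinite (Uu K n)
  rw [stMod, finrank_span_eq_card (linearIndependent_est (K := K) (n := n) (k := k)),
    Nat.card_eq_fintype_card]

variable (K n k) in
/-- The fixed vector of the Steinberg module. -/
noncomputable def vst : (SpecialLinearGroup (Fin n) K ⧸ Bo K n) → k :=
  haveI := Fintype.ofFinite (Uu K n)
  ∑ u : Uu K n, pr K n k (u : SLn) (est K n k)

theorem vst_eq [Fintype (Uu K n)] :
    vst K n k = ∑ u : Uu K n, pr K n k (u : SLn) (est K n k) := by
  rw [vst, Subsingleton.elim (Fintype.ofFinite (Uu K n))]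

theorem vst_mem : vst K n k ∈ stMod K n k := by
  haveI := Fintype.ofFinite (Uu K n)
  rw [vst_eq]
  exact sum_mem fun u _ => Submodule.subset_span ⟨u, rfl⟩

theorem vst_ne : vst K n k ≠ 0 := by
  haveI := Fintype.ofFinite (Uu K n)
  intro e
  rw [vst_eq] at e
  exact one_ne_zero (Fintype.linearIndependent_iff.1 (linearIndependent_est (K := K) (n := n) (k := k))
    (fun _ => 1) (by simpa using e) 1)

theorem fixU_vst : FixU (pr K n k) (vst K n k) := by
  haveI := Fintype.ofFinite (Uu K n)
  intro u hu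
  rw [vst_eq, map_sum]
  refine Fintype.sum_equiv (Equiv.mulLeft ⟨u, hu⟩) _ _ fun x => ?_
  rw [← rep_mul]; rfl

theorem diag_vst {t : SLn} (ht : IsMono t 1) : pr K n k t (vst K n k) = vst K n k := by
  haveI := Fintype.ofFinite (Uu K n)
  rw [vst_eq, map_sum]
  let e : Uu K n ≃ Uu K n :=
    { toFun := fun x => ⟨t * (x : SLn) * t⁻¹, conj_mem_Uu_of_isMono_one ht x.2⟩
      invFun := fun x => ⟨t⁻¹ * (x : SLn) * t⁻¹⁻¹,
        conj_mem_Uu_of_isMono_one (by simpa using ht.inv) x.2⟩
      left_inv := fun x => Subtype.ext (by simp [mul_assoc])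
      right_inv := fun x => Subtype.ext (by simp [mul_assoc]) }
  refine Fintype.sum_equiv e _ _ fun x => ?_
  show _ = pr K n k (t * (x : SLn) * t⁻¹) (est K n k)
  rw [← rep_mul]
  conv_rhs => rw [← est_diag (k := k) ht]
  rw [← rep_mul, inv_mul_cancel_right]

include p in
theorem As_vst {i i' : Fin n} (hii : (i : ℕ) + 1 = i') :
    As (pr K n k) i i' (vst K n k) = -vst K n k := by
  classical
  haveI := Fintype.ofFinite (Uu K n)
  have hlt : i < i' := by rw [Fin.lt_def]; omega
  have hr : IsMono (sr i i' : SLn) (Equiv.swap i i') := isMono_wtv hlt.ne one_ne_zero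
  have hr' : IsMono (sr i i' : SLn)⁻¹ (Equiv.swap i i') := by
    have := hr.inv; rwa [Equiv.swap_inv] at this
  let U0 : Type u := {x : SLn // x ∈ Uu K n ∧ x.1 i i' = 0}
  have hinv0 : ∀ (x : SLn), x ∈ Uu K n → ∀ t, (x * tv i i' t).1 i i' = x.1 i i' + t ∧
      (tv i i' t * x).1 i i' = t + x.1 i i' := fun x hx t => by
    rw [add_apply_succ hx (tv_mem_Uu hlt t) hii, add_apply_succ (tv_mem_Uu hlt t) hx hii,
      tv_apply_self hlt.ne]
    exact ⟨rfl, rfl⟩
  have htvinv : ∀ t : K, (tv i i' t : SLn)⁻¹ = tv i i' (-t) := fun t => rel_tv.inv hlt.ne t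
  let eR : U0 × K ≃ Uu K n :=
    { toFun := fun x => ⟨x.1.1 * tv i i' x.2, (Uu K n).mul_mem x.1.2.1 (tv_mem_Uu hlt _)⟩
      invFun := fun u => (⟨(u : SLn) * tv i i' (-(u : SLn).1 i i'),
        (Uu K n).mul_mem u.2 (tv_mem_Uu hlt _), by rw [(hinv0 _ u.2 _).1, add_neg_cancel]⟩,
        (u : SLn).1 i i')
      left_inv := fun x => by
        refine Prod.ext (Subtype.ext ?_) ?_
        · show x.1.1 * tv i i' x.2 * tv i i' (-((x.1.1 * tv i i' x.2).1 i i')) = x.1.1
          rw [(hinv0 _ x.1.2.1 _).1, x.1.2.2, zero_add, mul_assoc, ← htvinv, mul_inv_cancel, mul_one]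
        · show (x.1.1 * tv i i' x.2).1 i i' = x.2
          rw [(hinv0 _ x.1.2.1 _).1, x.1.2.2, zero_add]
      right_inv := fun u => Subtype.ext (by
        show (u : SLn) * tv i i' (-(u : SLn).1 i i') * tv i i' ((u : SLn).1 i i') = u
        rw [mul_assoc, ← htvinv, inv_mul_cancel, mul_one]) }
  let eL : K × U0 ≃ Uu K n :=
    { toFun := fun x => ⟨tv i i' x.1 * x.2.1, (Uu K n).mul_mem (tv_mem_Uu hlt _) x.2.2.1⟩
      invFun := fun u => ((u : SLn).1 i i', ⟨tv i i' (-(u : SLn).1 i i') * (u : SLn),
        (Uu K n).mul_mem (tv_mem_Uu hlt _) u.2, by rw [(hinv0 _ u.2 _).2, neg_add_cancel]⟩)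
      left_inv := fun x => by
        refine Prod.ext ?_ (Subtype.ext ?_)
        · show (tv i i' x.1 * x.2.1).1 i i' = x.1
          rw [(hinv0 _ x.2.2.1 _).2, x.2.2.2, add_zero]
        · show tv i i' (-((tv i i' x.1 * x.2.1).1 i i')) * (tv i i' x.1 * x.2.1) = x.2.1
          rw [(hinv0 _ x.2.2.1 _).2, x.2.2.2, add_zero, ← mul_assoc, ← htvinv, inv_mul_cancel, one_mul]
      right_inv := fun u => Subtype.ext (by
        show tv i i' ((u : SLn).1 i i') * (tv i i' (-(u : SLn).1 i i') * (u : SLn)) = u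
        rw [← mul_assoc, ← htvinv, mul_inv_cancel, one_mul]) }
  let c : U0 ≃ U0 :=
    { toFun := fun x => ⟨sr i i' * x.1 * (sr i i')⁻¹, conj_swap_mem_Uu hii hr x.2.1 x.2.2⟩
      invFun := fun x => ⟨(sr i i')⁻¹ * x.1 * (sr i i')⁻¹⁻¹, conj_swap_mem_Uu hii hr' x.2.1 x.2.2⟩
      left_inv := fun x => Subtype.ext (by simp [mul_assoc])
      right_inv := fun x => Subtype.ext (by simp [mul_assoc]) }
  haveI : Fintype U0 := Fintype.ofFinite _
  set E := est K n k with hE
  set Z : Pts → k := ∑ a : K, pr K n k (tv i i' a) E with hZ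
  obtain ⟨h1, h2⟩ := sr_est (k := k) (K := K) hii
  have hq : (Fintype.card K : k) = 0 := card_cast_eq_zero (p := p)
  -- the simple reflection on a column
  have hcol : ∑ b : K, pr K n k (sr i i' * tv i i' b) E = Z - E := by
    rw [← Finset.add_sum_erase _ _ (Finset.mem_univ (0 : K)), rel_tv.zero hlt.ne, mul_one, h1,
      Finset.sum_congr rfl fun b hb => h2 b (Finset.ne_of_mem_erase hb), Finset.sum_sub_distrib,
      Finset.sum_const, Finset.card_erase_of_mem (Finset.mem_univ _), Finset.card_univ,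
      ← Nat.cast_smul_eq_nsmul k, Nat.cast_sub Fintype.card_pos, hq, Nat.cast_one, zero_sub,
      neg_one_smul]
    have hre : ∑ b ∈ univ.erase (0 : K), pr K n k (tv i i' (-b⁻¹)) E =
        ∑ a ∈ univ.erase (0 : K), pr K n k (tv i i' a) E := by
      refine Finset.sum_nbij' (fun b => -b⁻¹) (fun a => -a⁻¹) ?_ ?_ ?_ ?_ ?_ <;> intros <;> simp_all
    rw [hre, hZ, hE, ← Finset.add_sum_erase _ _ (Finset.mem_univ (0 : K)), rel_tv.zero hlt.ne,
      map_one, Module.End.one_apply]
    abel
  -- summing over all of the group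
  have hall : ∑ u : Uu K n, pr K n k (u : SLn) Z = 0 := by
    have step : ∀ u : Uu K n, pr K n k (u : SLn) Z =
        ∑ a : K, pr K n k ((u : SLn) * tv i i' a) E := fun u => by
      rw [hZ, map_sum]
      exact Finset.sum_congr rfl fun a _ => (rep_mul (pr K n k) _ _ E).symm
    rw [Finset.sum_congr rfl fun u _ => step u]
    refine (Finset.sum_comm (s := (univ : Finset (Uu K n))) (t := (univ : Finset K))).trans ?_
    have this : ∀ a : K, ∑ u : Uu K n, pr K n k ((u : SLn) * tv i i' a) E = vst K n k := fun a => by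
      rw [vst_eq, ← hE, ← Equiv.sum_comp (Equiv.mulRight (⟨tv i i' a, tv_mem_Uu hlt a⟩ : Uu K n))
        (fun u : Uu K n => pr K n k (u : SLn) E)]
      refine Finset.sum_congr rfl fun u _ => ?_
      rw [Equiv.coe_mulRight, Subgroup.coe_mul]
    rw [Finset.sum_congr rfl fun a _ => this a, Finset.sum_const, Finset.card_univ,
      ← Nat.cast_smul_eq_nsmul k, hq, zero_smul]
  have hU0sum : ∀ F : SLn → (Pts → k), ∑ t : K, ∑ x : U0, F (tv i i' t * x.1) = ∑ u : Uu K n, F u :=
    fun F => by
      rw [← Fintype.sum_prod_type']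
      exact Fintype.sum_equiv eL _ _ fun x => rfl
  calc As (pr K n k) i i' (vst K n k)
      = ∑ t : K, ∑ x : U0, ∑ b : K,
          pr K n k (tv i i' t * sr i i') (pr K n k (x.1 * tv i i' b) E) := by
        rw [As_apply, vst_eq]
        refine Finset.sum_congr rfl fun t _ => ?_
        rw [map_sum, ← Fintype.sum_prod_type']
        exact (Fintype.sum_equiv eR _ _ fun x => rfl).symm
    _ = ∑ t : K, ∑ x : U0, pr K n k (tv i i' t * x.1) (Z - E) := by
        refine Finset.sum_congr rfl fun t _ => ?_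
        refine Fintype.sum_equiv c _ _ fun x => ?_
        rw [← hcol, map_sum]
        refine Finset.sum_congr rfl fun b _ => ?_
        rw [← rep_mul, ← rep_mul]
        congr 2
        show _ = tv i i' t * (sr i i' * x.1 * (sr i i')⁻¹) * (sr i i' * tv i i' b)
        group
    _ = ∑ u : Uu K n, pr K n k (u : SLn) (Z - E) := hU0sum fun g => pr K n k g (Z - E)
    _ = -vst K n k := by
        simp only [map_sub]
        rw [Finset.sum_sub_distrib, hall, zero_sub, hE, ← vst_eq]

include p in
theorem Aw_vst : ∀ (m : SLn) (σ : Equiv.Perm (Fin n)), IsMono m σ →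
    Aw (pr K n k) m (vst K n k) = (sg σ : k) • vst K n k := by
  refine mono_induction (fun m σ => Aw (pr K n k) m (vst K n k) = (sg σ : k) • vst K n k)
    (fun m hm => ?_) fun i i' m σ hii hm hd ih => ?_
  · rw [Aw_base _ hm, diag_vst hm]
    simp [sg]
  · rw [Aw_step _ hii hm hd, ih, map_smul, As_vst (p := p) hii, sg_mul,
      sg_swap (by rw [Ne, Fin.ext_iff]; omega), neg_one_mul, neg_smul, smul_neg]

include p in
/-- **The Steinberg module is simple.** -/
theorem stMod_simple [Nontrivial (Fin n)] (hU : IsPGroup p (Uu K n)) :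
    IsSimpleRep (subRep (pr K n k) (stMod K n k) stMod_invar) := by
  classical
  haveI := Fintype.ofFinite (Uu K n)
  have hmem : est K n k ∈ stMod K n k := Submodule.subset_span ⟨1, by simp⟩
  have hnt : est K n k ≠ 0 := fun e => by
    have := (linearIndependent_est (K := K) (n := n) (k := k)).ne_zero 1
    simp [e] at this
  refine ⟨Submodule.nontrivial_iff_ne_bot.2 fun e => hnt ((Submodule.mem_bot k).1 (e ▸ hmem)), ?_⟩
  intro U hUinv
  by_cases hbot : U = ⊥
  · exact Or.inl hbot
  right
  haveI : Nontrivial U := Submodule.nontrivial_iff_ne_bot.2 hbot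
  let σU : Representation k (Uu K n) U :=
    (subRep (subRep (pr K n k) (stMod K n k) stMod_invar) U hUinv).comp (Uu K n).subtype
  obtain ⟨y, hy0, hy⟩ := Blocks.exists_fixed_ne_zero (k := k) (V := U) hU σU
  -- a fixed vector is a multiple of `vst`
  obtain ⟨a, ha⟩ := (Submodule.mem_span_range_iff_exists_fun k).1 (y : stMod K n k).2
  have hconst : ∀ u, a u = a 1 := by
    intro u
    have h := congrArg (fun z : U => (((z : stMod K n k)) : Pts → k)) (hy u)
    change pr K n k (u : SLn) ((y : stMod K n k) : Pts → k) = ((y : stMod K n k) : Pts → k) at h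
    rw [← ha, map_sum] at h
    simp only [map_smul, ← rep_mul] at h
    have h' : ∑ x : Uu K n, a (u⁻¹ * x) • pr K n k (x : SLn) (est K n k) =
        ∑ x : Uu K n, a x • pr K n k (x : SLn) (est K n k) := by
      refine Eq.trans (Fintype.sum_equiv (Equiv.mulLeft u⁻¹) _ _ fun x => ?_) h
      rw [Equiv.coe_mulLeft, ← Subgroup.coe_mul, mul_inv_cancel_left]
    have h2 := Fintype.linearIndependent_iff.1 (linearIndependent_est (K := K) (n := n) (k := k))
      (fun x => a (u⁻¹ * x) - a x) (by simp only [sub_smul, Finset.sum_sub_distrib, h', sub_self]) u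
    rw [inv_mul_cancel, sub_eq_zero] at h2
    exact h2.symm
  have hy' : ((y : stMod K n k) : Pts → k) = a 1 • vst K n k := by
    rw [← ha, vst_eq, Finset.smul_sum]
    exact Finset.sum_congr rfl fun u _ => by rw [hconst u]
  have ha1 : a 1 ≠ 0 := fun e => hy0 (Subtype.ext (Subtype.ext (by rw [hy', e, zero_smul]; rfl)))
  have hv : (⟨vst K n k, vst_mem⟩ : stMod K n k) ∈ U := by
    have : (⟨vst K n k, vst_mem⟩ : stMod K n k) = (a 1)⁻¹ • (y : stMod K n k) := Subtype.ext (by
      show vst K n k = (a 1)⁻¹ • ((y : stMod K n k) : Pts → k)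
      rw [hy', inv_smul_smul₀ ha1])
    rw [this]
    exact U.smul_mem _ y.2
  -- the translates of `m0 vst` span
  obtain ⟨m0, hm0⟩ := exists_mono (K := K) (n := n) Fin.revPerm
  set z : stMod K n k := subRep (pr K n k) (stMod K n k) stMod_invar m0 ⟨vst K n k, vst_mem⟩ with hz
  let Φ : (Uu K n → k) →ₗ[k] stMod K n k :=
    Fintype.linearCombination k fun u : Uu K n =>
      subRep (pr K n k) (stMod K n k) stMod_invar (u : SLn) z
  have hinj : Function.Injective Φ := by
    rw [← LinearMap.ker_eq_bot]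
    by_contra hker
    haveI : Nontrivial (LinearMap.ker Φ) := Submodule.nontrivial_iff_ne_bot.2 hker
    let τ : Representation k (Uu K n) (Uu K n → k) :=
      { toFun := fun u => LinearMap.funLeft k k fun x => u⁻¹ * x
        map_one' := LinearMap.ext fun f => funext fun x => by simp [LinearMap.funLeft_apply]
        map_mul' := fun u w => LinearMap.ext fun f => funext fun x => by
          simp [LinearMap.funLeft_apply, mul_assoc] }
    have hτ : IsInvar τ (LinearMap.ker Φ) := fun u f hf => by
      rw [LinearMap.mem_ker] at hf ⊢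
      rw [show Φ (τ u f) = subRep (pr K n k) (stMod K n k) stMod_invar (u : SLn) (Φ f) by
        simp only [Φ, Fintype.linearCombination_apply, map_sum, map_smul]
        refine Fintype.sum_equiv (Equiv.mulLeft u⁻¹) _ _ fun x => ?_
        rw [Equiv.coe_mulLeft]
        show f (u⁻¹ * x) • _ = f (u⁻¹ * x) • _
        rw [← rep_mul _ (u : SLn) (((u⁻¹ * x : Uu K n)) : SLn) z, ← Subgroup.coe_mul,
          mul_inv_cancel_left], hf, map_zero]
    obtain ⟨f, hf0, hf⟩ := Blocks.exists_fixed_ne_zero (k := k) hU (subRep τ (LinearMap.ker Φ) hτ)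
    have hfc : ∀ x, (f : Uu K n → k) x = (f : Uu K n → k) 1 := fun x => by
      have h := congrFun (congrArg Subtype.val (hf x)) x
      change (f : Uu K n → k) (x⁻¹ * x) = _ at h
      rw [inv_mul_cancel] at h
      exact h.symm
    have hf1 : (f : Uu K n → k) 1 ≠ 0 := fun e =>
      hf0 (Subtype.ext (funext fun x => by rw [hfc x, e]; rfl))
    have h := congrArg Subtype.val (LinearMap.mem_ker.1 f.2)
    simp only [Φ, Fintype.linearCombination_apply] at h
    rw [AddSubmonoidClass.coe_finset_sum] at h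
    have hsum : ∑ u : Uu K n, pr K n k (u : SLn) (pr K n k m0 (vst K n k)) =
        Aw (pr K n k) m0 (vst K n k) := by
      haveI := Fintype.ofFinite (Uw (m0 : SLn))
      rw [Aw_apply]
      refine Fintype.sum_equiv (MulEquiv.subgroupCongr (Uw_longest hm0).symm).toEquiv _ _ fun x => ?_
      rw [← rep_mul]; rfl
    refine vst_ne (K := K) (n := n) (k := k) ?_
    have h2 : (f : Uu K n → k) 1 • ((sg (Fin.revPerm : Equiv.Perm (Fin n)) : k) • vst K n k) = 0 := by
      rw [← Aw_vst (p := p) m0 _ hm0, ← hsum, Finset.smul_sum]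
      refine Eq.trans (Finset.sum_congr rfl fun u _ => ?_) h
      rw [hfc u]
      rfl
    rw [smul_smul] at h2
    exact (smul_eq_zero.1 h2).resolve_left (mul_ne_zero hf1 (sg_ne_zero _))
  have hsurj : Function.Surjective Φ :=
    (LinearMap.injective_iff_surjective_of_finrank_eq_finrank (by
      rw [Module.finrank_fintype_fun_eq_card, finrank_stMod, Nat.card_eq_fintype_card])).1 hinj
  refine eq_top_iff.2 fun w _ => ?_
  obtain ⟨f, rfl⟩ := hsurj w
  simp only [Φ, Fintype.linearCombination_apply]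
  exact sum_mem fun u _ => U.smul_mem _ (hUinv _ _ (hUinv _ _ hv))

/-- The identity of the Steinberg module is a trace from `U`. -/
theorem exists_trace [Fintype (Uu K n)] :
    ∃ f : stMod K n k →ₗ[k] stMod K n k, ∀ w (hinv : IsInvar (pr K n k) (stMod K n k)),
      ∑ u : Uu K n, subRep (pr K n k) (stMod K n k) hinv (u : SLn)
        (f (subRep (pr K n k) (stMod K n k) hinv (u : SLn)⁻¹ w)) = w := by
  classical
  obtain ⟨m0, hm0⟩ := exists_mono (K := K) (n := n) Fin.revPerm
  set s : k := sg (Fin.revPerm : Equiv.Perm (Fin n)) with hs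
  have hmem : est K n k ∈ stMod K n k := Submodule.subset_span ⟨1, by simp⟩
  let f : stMod K n k →ₗ[k] stMod K n k :=
    (s⁻¹ • ((LinearMap.proj (R := k) (φ := fun _ : Pts => k) (QuotientGroup.mk m0)).comp
      (stMod K n k).subtype)).smulRight ⟨est K n k, hmem⟩
  refine ⟨f, fun w hinv => Subtype.ext ?_⟩
  rw [AddSubmonoidClass.coe_finset_sum]
  have hlin : ∀ x (hx : x ∈ stMod K n k),
      ∑ u : Uu K n, (s⁻¹ * pr K n k (u : SLn)⁻¹ x (QuotientGroup.mk m0)) •
        pr K n k (u : SLn) (est K n k) = x := by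
    intro x hx
    induction hx using Submodule.span_induction with
    | mem y hy =>
      obtain ⟨v, rfl⟩ := hy
      rw [Finset.sum_eq_single v]
      · rw [← rep_mul, inv_mul_cancel, map_one, Module.End.one_apply]
        have h := (est_eval (k := k) hm0 (Uu K n).one_mem).1 rfl
        rw [one_mul] at h
        rw [h, inv_mul_cancel₀ (sg_ne_zero _), one_smul]
      · intro u _ hu
        rw [← rep_mul, pr_apply, _root_.mul_inv_rev, inv_inv, MulAction.Quotient.smul_coe,
          smul_eq_mul, (est_eval (k := k) hm0 ((Uu K n).mul_mem ((Uu K n).inv_mem v.2) u.2)).2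
            (fun e => hu (Subtype.ext (inv_mul_eq_one.1 e).symm)), mul_zero, zero_smul]
      · simp
    | zero => simp
    | add a b _ _ ha hb =>
      simp only [map_add, Pi.add_apply, mul_add, add_smul, Finset.sum_add_distrib, ha, hb]
    | smul c a _ ha =>
      conv_rhs => rw [← ha, Finset.smul_sum]
      refine Finset.sum_congr rfl fun u _ => ?_
      rw [map_smul, Pi.smul_apply, smul_eq_mul, smul_smul, mul_left_comm]
  refine Eq.trans (Finset.sum_congr rfl fun u _ => ?_) (hlin _ w.2)
  show pr K n k (u : SLn) ((f _ : stMod K n k) : Pts → k) = _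
  simp [f, Modular.coe_subRep, smul_smul]

end CfsgLib.SLDefining
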