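import Cfsg.Agent.Lib.CharApps.SLDefining.Unique

/-!
# The Steinberg module of `SL_n`
-/

set_option autoImplicit false
set_option linter.unusedSectionVars false
set_option linter.style.haveILetI false

namespace CfsgLib.SLDefining

open Matrix Finset
open CfsgLib.StSL (tv tv_coe rel_tv)
open CfsgLib.Modular (IsInvar IsSimpleRep subRep)

universe u v

variable {K : Type u} [Field K] [Fintype K] {n : ℕ}
variable {k : Type v} [Field k]

local notation "SLn" => SpecialLinearGroup (Fin n) K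
local notation "Pts" => SpecialLinearGroup (Fin n) K ⧸ Bo K n

variable (K n k) in
/-- The permutation representation on the cosets of the upper triangular matrices. -/
def pr : Representation k (SpecialLinearGroup (Fin n) K)
    ((SpecialLinearGroup (Fin n) K ⧸ Bo K n) → k) where
  toFun g := LinearMap.funLeft k k fun c => g⁻¹ • c
  map_one' := LinearMap.ext fun f => funext fun c => by
    rw [LinearMap.funLeft_apply, inv_one, one_smul]; rfl
  map_mul' a b := LinearMap.ext fun f => funext fun c => by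
    simp only [Module.End.mul_apply, LinearMap.funLeft_apply, _root_.mul_inv_rev, mul_smul]

theorem pr_apply (g : SLn) (f : Pts → k) (c : Pts) : pr K n k g f c = f (g⁻¹ • c) := rfl

open scoped _root_.Classical in
variable (K k) in
/-- The indicator of the monomial coset of a permutation. -/
noncomputable def dl (σ : Equiv.Perm (Fin n)) : (SpecialLinearGroup (Fin n) K ⧸ Bo K n) → k :=
  fun c => if ∃ m, IsMono m σ ∧ (QuotientGroup.mk m : Pts) = c then 1 else 0

theorem pr_dl_mul {g : SLn} {τ : Equiv.Perm (Fin n)} (hg : IsMono g τ) (σ : Equiv.Perm (Fin n)) :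
    pr K n k g (dl K k σ) = dl K k (τ * σ) := by
  classical
  funext c
  rw [pr_apply, dl, dl]
  refine if_congr ⟨fun ⟨m, hm, e⟩ => ⟨g * m, hg.mul hm, ?_⟩, fun ⟨m, hm, e⟩ => ⟨g⁻¹ * m, ?_, ?_⟩⟩ rfl rfl
  · rw [show (QuotientGroup.mk (g * m) : Pts) = g • (QuotientGroup.mk m : Pts) from rfl, e,
      smul_inv_smul]
  · have := hg.inv.mul hm
    rwa [inv_mul_cancel_left] at this
  · rw [← e]; rfl

theorem pr_dl_fix {g : SLn} {σ : Equiv.Perm (Fin n)}
    (h : ∀ m, IsMono m σ → m⁻¹ * g * m ∈ Bo K n) : pr K n k g (dl K k σ) = dl K k σ := by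
  classical
  have hfix : ∀ m, IsMono m σ → g • (QuotientGroup.mk m : Pts) = QuotientGroup.mk m := fun m hm => by
    rw [MulAction.Quotient.smul_coe, smul_eq_mul, QuotientGroup.eq, _root_.mul_inv_rev]
    have := (Bo K n).inv_mem (h m hm)
    rwa [_root_.mul_inv_rev, _root_.mul_inv_rev, inv_inv, ← mul_assoc] at this
  funext c
  rw [pr_apply, dl]
  refine if_congr ⟨fun ⟨m, hm, e⟩ => ⟨m, hm, ?_⟩, fun ⟨m, hm, e⟩ => ⟨m, hm, ?_⟩⟩ rfl rfl
  · rw [← hfix m hm, e, smul_inv_smul]
  · rw [← e]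
    conv_rhs => rw [← hfix m hm]
    rw [inv_smul_smul]

theorem pr_dl_tv {i j : Fin n} (hij : i < j) {σ : Equiv.Perm (Fin n)} (hd : ¬ σ⁻¹ j < σ⁻¹ i)
    (t : K) : pr K n k (tv i j t) (dl K k σ) = dl K k σ := by
  refine pr_dl_fix fun m hm => ?_
  have e := hm.inv.conj_tv hij.ne t
  rw [inv_inv] at e
  rw [e]
  exact Uu_le_Bo (tv_mem_Uu (lt_of_le_of_ne (not_lt.1 hd) ((σ⁻¹).injective.ne hij.ne)) _)

/-- The sign of a permutation in `k`. -/
def sg (σ : Equiv.Perm (Fin n)) : k := (((Equiv.Perm.sign σ : ℤˣ) : ℤ) : k)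

theorem sg_mul (σ τ : Equiv.Perm (Fin n)) : sg (k := k) (σ * τ) = sg σ * sg τ := by
  simp [sg]

theorem sg_swap {i j : Fin n} (h : i ≠ j) : sg (k := k) (Equiv.swap i j) = -1 := by
  simp [sg, Equiv.Perm.sign_swap h]

theorem sg_ne_zero (σ : Equiv.Perm (Fin n)) : sg (k := k) σ ≠ 0 := fun e => by
  have h2 := congrArg (fun x : k => x * x) e
  simp only [sg, mul_zero, ← Int.cast_mul, ← Units.val_mul, Int.units_mul_self, Units.val_one,
    Int.cast_one] at h2
  exact one_ne_zero h2

variable (K n k) in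
/-- The alternating sum of the monomial cosets. -/
noncomputable def est : (SpecialLinearGroup (Fin n) K ⧸ Bo K n) → k :=
  ∑ σ : Equiv.Perm (Fin n), (sg σ : k) • dl K k σ

theorem est_diag {t : SLn} (ht : IsMono t 1) : pr K n k t (est K n k) = est K n k := by
  rw [est, map_sum]
  exact Finset.sum_congr rfl fun σ _ => by rw [map_smul, pr_dl_mul ht, one_mul]

theorem est_swap {i i' : Fin n} (hii : (i : ℕ) + 1 = i') :
    ∃ f : Pts → k, est K n k = f - pr K n k (sr i i') f ∧
      (∀ t, pr K n k (tv i i' t) f = f) ∧ ∀ t : SLn, IsMono t 1 → pr K n k t f = f := by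
  classical
  have hlt : i < i' := by rw [Fin.lt_def]; omega
  have hr : IsMono (sr i i' : SLn) (Equiv.swap i i') := isMono_wtv hlt.ne one_ne_zero
  refine ⟨∑ σ ∈ univ.filter (fun σ : Equiv.Perm (Fin n) => ¬ σ⁻¹ i' < σ⁻¹ i), (sg σ : k) • dl K k σ,
    ?_, fun t => ?_, fun t ht => ?_⟩
  · rw [est, ← Finset.sum_filter_add_sum_filter_not univ
      (fun σ : Equiv.Perm (Fin n) => ¬ σ⁻¹ i' < σ⁻¹ i), sub_eq_add_neg, map_sum,
      ← Finset.sum_neg_distrib]
    congr 1
    symm
    refine Finset.sum_equiv (Equiv.mulLeft (Equiv.swap i i')) (fun σ => ?_) fun σ _ => ?_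
    · simp only [Finset.mem_filter, Finset.mem_univ, true_and, not_not, Equiv.coe_mulLeft,
        _root_.mul_inv_rev, Equiv.swap_inv, Equiv.Perm.mul_apply, Equiv.swap_apply_left,
        Equiv.swap_apply_right]
      exact ⟨fun h => lt_of_le_of_ne (not_lt.1 h) ((σ⁻¹).injective.ne hlt.ne), fun h => h.not_gt⟩
    · rw [Equiv.coe_mulLeft, map_smul, pr_dl_mul hr, sg_mul, sg_swap hlt.ne, neg_one_mul, neg_smul]
  · rw [map_sum]
    exact Finset.sum_congr rfl fun σ hσ => by
      rw [map_smul, pr_dl_tv hlt (Finset.mem_filter.1 hσ).2]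
  · rw [map_sum]
    exact Finset.sum_congr rfl fun σ _ => by rw [map_smul, pr_dl_mul ht, one_mul]

theorem sr_est {i i' : Fin n} (hii : (i : ℕ) + 1 = i') :
    pr K n k (sr i i') (est K n k) = -est K n k ∧
      ∀ b : K, b ≠ 0 → pr K n k (sr i i' * tv i i' b) (est K n k) =
        pr K n k (tv i i' (-b⁻¹)) (est K n k) - est K n k := by
  have hlt : i < i' := by rw [Fin.lt_def]; omega
  obtain ⟨f, hf, hx, ht⟩ := est_swap (k := k) (K := K) hii
  have hss : pr K n k (sr i i') (pr K n k (sr i i') f) = f := by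
    rw [← rep_mul, sr_sq hlt.ne, ht _ (isMono_hd hlt.ne (neg_ne_zero.2 one_ne_zero))]
  refine ⟨by rw [hf, map_sub, hss]; abel, fun b hb => ?_⟩
  have hxs : pr K n k (sr i i' * tv i i' b) (pr K n k (sr i i') f) =
      pr K n k (tv i i' (-b⁻¹)) (pr K n k (sr i i') f) := by
    rw [← rep_mul, sr_tv_sr hlt.ne hb, rep_mul, hx, rep_mul,
      ht _ (isMono_hd hlt.ne (neg_ne_zero.2 hb)), rep_mul]
  rw [hf, map_sub, hxs, rep_mul (pr K n k) (sr i i'), hx, map_sub, hx]
  abel

variable (K n k) in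
/-- The Steinberg module. -/
def stMod : Submodule k ((SpecialLinearGroup (Fin n) K ⧸ Bo K n) → k) :=
  Submodule.span k (Set.range fun u : Uu K n => pr K n k (u : SLn) (est K n k))

theorem stMod_invar [Nontrivial (Fin n)] : IsInvar (pr K n k) (stMod K n k) := by
  classical
  have hgen : ∀ x : SLn, x ∈ Uu K n → pr K n k x (est K n k) ∈ stMod K n k := fun x hx =>
    Submodule.subset_span ⟨⟨x, hx⟩, rfl⟩
  let H : Subgroup SLn := subgroupOfClosed
    {g | ∀ y ∈ stMod K n k, pr K n k g y ∈ stMod K n k}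
    (fun y hy => by rw [map_one]; exact hy) fun a ha b hb y hy => by
      rw [rep_mul]; exact ha _ (hb y hy)
  have hspan : ∀ g : SLn, (∀ x, x ∈ Uu K n → pr K n k g (pr K n k x (est K n k)) ∈ stMod K n k) →
      g ∈ H := by
    intro g h y hy
    have hle : stMod K n k ≤ (stMod K n k).comap (pr K n k g) :=
      Submodule.span_le.2 (by rintro _ ⟨x, rfl⟩; exact h x x.2)
    exact hle hy
  have hU : Uu K n ≤ H := fun g hg => hspan g fun x hx => by
    rw [← rep_mul]; exact hgen _ ((Uu K n).mul_mem hg hx)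
  have hs : ∀ i i' : Fin n, (i : ℕ) + 1 = i' → sr i i' ∈ H := by
    intro i i' hii
    refine hspan _ fun x hx => ?_
    have hlt : i < i' := by rw [Fin.lt_def]; omega
    have hr : IsMono (sr i i' : SLn) (Equiv.swap i i') := isMono_wtv hlt.ne one_ne_zero
    set b : K := x.1 i i' with hb
    set x1 : SLn := x * tv i i' (-b) with hx1
    have hx1U : x1 ∈ Uu K n := (Uu K n).mul_mem hx (tv_mem_Uu hlt _)
    have h10 : x1.1 i i' = 0 := by
      rw [hx1, add_apply_succ hx (tv_mem_Uu hlt _) hii, tv_apply_self hlt.ne, hb, add_neg_cancel]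
    obtain ⟨hy, -⟩ := conj_swap_mem_Uu hii hr hx1U h10
    have e2 : sr i i' * x = sr i i' * x1 * (sr i i')⁻¹ * (sr i i' * tv i i' b) := by
      rw [hx1, show sr i i' * (x * tv i i' (-b)) * (sr i i')⁻¹ * (sr i i' * tv i i' b) =
        sr i i' * (x * (tv i i' (-b) * tv i i' b)) by group,
        tv_add hlt.ne, neg_add_cancel, rel_tv.zero hlt.ne, mul_one]
    rw [← rep_mul, e2, rep_mul]
    refine hU hy _ ?_
    obtain ⟨h1, h2⟩ := sr_est (k := k) (K := K) hii
    by_cases hb0 : b = 0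
    · rw [hb0, rel_tv.zero hlt.ne, mul_one, h1]
      exact neg_mem (by simpa using hgen 1 (Uu K n).one_mem)
    · rw [h2 b hb0]
      exact sub_mem (hgen _ (tv_mem_Uu hlt _)) (by simpa using hgen 1 (Uu K n).one_mem)
  have hmono : ∀ (m : SLn) (σ : Equiv.Perm (Fin n)), IsMono m σ → m ∈ H := by
    refine mono_induction (fun m _ => m ∈ H) (fun t ht => hspan t fun x hx => ?_)
      fun i i' m σ hii _ _ ih => H.mul_mem (hs i i' hii) ih
    rw [← rep_mul, show t * x = t * x * t⁻¹ * t by group, rep_mul, est_diag ht]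
    exact hgen _ (conj_mem_Uu_of_isMono_one ht hx)
  have hL : Ul K n ≤ H := by
    intro x hx
    obtain ⟨m0, hm0⟩ := exists_mono (K := K) (n := n) Fin.revPerm
    have h1 : m0 * x * m0⁻¹ ∈ Uu K n := by
      intro a b hab
      obtain ⟨a, rfl⟩ := (Fin.revPerm (n := n)).surjective a
      obtain ⟨b, rfl⟩ := (Fin.revPerm (n := n)).surjective b
      have hab' : a ≤ b := by simpa using hab
      have e := hm0.conj_apply x a b
      rw [hx a b hab'] at e
      by_cases h : a = b
      · subst h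
        rw [Matrix.one_apply_eq, mul_one] at e
        rw [Matrix.one_apply_eq]
        exact (mul_eq_right₀ (hm0.apply_ne_zero a)).1 e
      · rw [Matrix.one_apply_ne h, mul_zero] at e
        rw [Matrix.one_apply_ne (Fin.revPerm.injective.ne h)]
        exact (mul_eq_zero.1 e).resolve_right (hm0.apply_ne_zero b)
    have h2 : x = m0⁻¹ * (m0 * x * m0⁻¹) * m0 := by group
    rw [h2]
    exact H.mul_mem (H.mul_mem (H.inv_mem (hmono _ _ hm0)) (hU h1)) (hmono _ _ hm0)
  have hH := eq_top_of_generators hL hs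
  intro g y hy
  exact (hH ▸ Subgroup.mem_top g : g ∈ H) y hy

theorem perm_eq_one_of_le {π : Equiv.Perm (Fin n)} (hle : ∀ j, π j ≤ j) : π = 1 := by
  ext j
  induction j using WellFoundedLT.induction with
  | _ j ih =>
    rcases (hle j).lt_or_eq with hlt | heq
    · exact absurd (π.injective (Fin.ext (ih _ hlt))) hlt.ne
    · rw [heq]; rfl

/-- The value of a translate of the alternating sum on the big cell. -/
theorem est_eval {m0 : SLn} (hm0 : IsMono m0 Fin.revPerm) {u : SLn} (hu : u ∈ Uu K n) :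
    (u = 1 → est K n k (QuotientGroup.mk (u * m0)) = sg (Fin.revPerm : Equiv.Perm (Fin n))) ∧
      (u ≠ 1 → est K n k (QuotientGroup.mk (u * m0)) = 0) := by
  classical
  have key : ∀ σ, (∃ m, IsMono m σ ∧ (QuotientGroup.mk m : Pts) = QuotientGroup.mk (u * m0)) →
      σ = Fin.revPerm ∧ u = 1 := by
    rintro σ ⟨m, hm, e⟩
    rw [QuotientGroup.eq] at e
    have hent : ∀ a c : Fin n, (m⁻¹ * (u * m0)).1 (σ⁻¹ a) (Fin.rev c) =
        m⁻¹.1 (σ⁻¹ a) a * (u.1 a c * m0.1 c (Fin.rev c)) := by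
      intro a c
      rw [hm.inv.mul_apply, hm0.apply_mul]
      simp
    have hm0ne : ∀ c, m0.1 c (Fin.rev c) ≠ 0 := fun c => by
      have := hm0.apply_ne_zero (Fin.rev c)
      simpa using this
    have hle : ∀ a : Fin n, σ⁻¹ a ≤ Fin.rev a := by
      intro a
      by_contra hlt
      rw [not_le] at hlt
      have h := hent a a
      rw [mem_Bo.1 e _ _ hlt, hu a a le_rfl, Matrix.one_apply_eq, one_mul] at h
      exact mul_ne_zero (hm.inv.apply_ne_zero a) (hm0ne a) h.symm
    have hπ : σ⁻¹ * Fin.revPerm = 1 := perm_eq_one_of_le fun j => by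
      have := hle (Fin.rev j)
      rwa [Fin.rev_rev] at this
    have hσ : σ = Fin.revPerm := by
      rw [← mul_one σ, ← hπ, ← mul_assoc, mul_inv_cancel, one_mul]
    refine ⟨hσ, Subtype.ext (Matrix.ext fun a c => ?_)⟩
    rw [val_one]
    rcases lt_or_ge a c with hac | hca
    · have h := hent a c
      have hσa : σ⁻¹ a = Fin.rev a := by
        rw [hσ, show (Fin.revPerm : Equiv.Perm (Fin n))⁻¹ = Fin.revPerm from Fin.revPerm_symm]
        rfl
      rw [mem_Bo.1 e _ _ (by rw [hσa]; exact Fin.rev_lt_rev.2 hac)] at h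
      rw [Matrix.one_apply_ne hac.ne]
      by_contra hne
      exact mul_ne_zero (hm.inv.apply_ne_zero a) (mul_ne_zero hne (hm0ne c)) h.symm
    · exact hu a c hca
  have hval : est K n k (QuotientGroup.mk (u * m0)) =
      ∑ σ : Equiv.Perm (Fin n), (sg σ : k) * dl K k σ (QuotientGroup.mk (u * m0)) := by
    rw [est, Finset.sum_apply]
    rfl
  refine ⟨fun h1 => ?_, fun h1 => ?_⟩
  · rw [hval, Finset.sum_eq_single (Fin.revPerm : Equiv.Perm (Fin n))]
    · rw [dl, if_pos ⟨m0, hm0, by rw [h1, one_mul]⟩, mul_one]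
    · intro σ _ hne
      rw [dl, if_neg fun h => hne (key σ h).1, mul_zero]
    · simp
  · rw [hval]
    exact Finset.sum_eq_zero fun σ _ => by rw [dl, if_neg fun h => h1 (key σ h).2, mul_zero]

end CfsgLib.SLDefining
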