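import Cfsg.Agent.Lib.CharApps.SLDefining.Hecke

/-!
# Simple representations of `SL_n` of dimension divisible by `#U` in defining characteristic
-/

set_option autoImplicit false
set_option linter.unusedSectionVars false
set_option linter.style.haveILetI false

namespace CfsgLib.SLDefining

open Matrix Finset
open CfsgLib.StSL (tv tv_coe rel_tv)
open CfsgLib.Modular (IsInvar IsSimpleRep subRep)

universe u v w w'

variable {K : Type u} [Field K] [Fintype K] {n : ℕ}
variable {k : Type v} [Field k] {W : Type w} [AddCommGroup W] [Module k W]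
variable {W' : Type w'} [AddCommGroup W'] [Module k W']

local notation "SLn" => SpecialLinearGroup (Fin n) K

/-- The vector of the Steinberg module. -/
structure StdVec (ρ : Representation k (SpecialLinearGroup (Fin n) K) W) (v : W) : Prop where
  ne : v ≠ 0
  fixU : FixU ρ v
  fixH : ∀ i i' : Fin n, (i : ℕ) + 1 = i' → ∀ d : K, d ≠ 0 → ρ (hd i i' d) v = v
  neg : ∀ i i' : Fin n, (i : ℕ) + 1 = i' → As ρ i i' v = -v

/-- Transposition exchanges the two unitriangular groups. -/
theorem card_Ul_eq : Nat.card (Ul K n) = Nat.card (Uu K n) := by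
  let T : SLn ≃ SLn :=
    { toFun := fun g => ⟨g.1ᵀ, by rw [Matrix.det_transpose]; exact g.2⟩
      invFun := fun g => ⟨g.1ᵀ, by rw [Matrix.det_transpose]; exact g.2⟩
      left_inv := fun g => Subtype.ext (Matrix.transpose_transpose _)
      right_inv := fun g => Subtype.ext (Matrix.transpose_transpose _) }
  refine Nat.card_congr (T.subtypeEquiv fun g => ?_)
  change (∀ i j, i ≤ j → g.1 i j = (1 : Matrix (Fin n) (Fin n) K) i j) ↔
    ∀ i j, j ≤ i → g.1 j i = (1 : Matrix (Fin n) (Fin n) K) i j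
  exact ⟨fun h i j hij => by rw [h j i hij, Matrix.one_apply, Matrix.one_apply]; simp [eq_comm],
    fun h i j hij => by rw [h j i hij, Matrix.one_apply, Matrix.one_apply]; simp [eq_comm]⟩

variable (K n) in
/-- The diagonal matrices. -/
def Tor : Subgroup SLn :=
  subgroupOfClosed {t | IsMono t 1} isMono_one fun a ha b hb => by
    simpa using IsMono.mul ha hb

theorem tor_comm (a b : Tor K n) : a * b = b * a := by
  refine Subtype.ext (Subtype.ext (Matrix.ext fun i j => ?_))
  have h1 := (show IsMono (a : SLn) 1 from a.2).mul_apply (b : SLn) i j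
  have h2 := (show IsMono (a : SLn) 1 from a.2).apply_mul (b : SLn) i j
  simp only [Equiv.Perm.coe_one, id] at h1 h2
  show ((a : SLn) * (b : SLn)).1 i j = ((b : SLn) * (a : SLn)).1 i j
  rw [h1, h2]
  by_cases h : i = j
  · subst h; exact mul_comm _ _
  · rw [(show IsMono (b : SLn) 1 from b.2).apply_eq_zero h, mul_zero, zero_mul]

variable {ρ : Representation k (SpecialLinearGroup (Fin n) K) W} {p : ℕ} [Fact p.Prime] [CharP k p]
variable [CharP K p]

include p in
theorem exists_fixU_eigT [IsAlgClosed k] [FiniteDimensional k W] [Nontrivial W] [Nonempty (Fin n)]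
    (hU : IsPGroup p (Uu K n)) : ∃ y : W, y ≠ 0 ∧ FixU ρ y ∧ EigT ρ y := by
  let F : Submodule k W :=
    { carrier := {y | FixU ρ y}
      add_mem' := fun {a b} ha hb u hu => by rw [map_add, ha u hu, hb u hu]
      zero_mem' := fun _ _ => map_zero _
      smul_mem' := fun c a ha u hu => by rw [map_smul, ha u hu] }
  set τ : Representation k (Tor K n) W := ρ.comp (Tor K n).subtype with hτ
  have hF : IsInvar τ F := fun t y hy u hu => by
    show ρ u (ρ (t : SLn) y) = ρ (t : SLn) y
    have h := conj_mem_Uu_of_isMono_one (show IsMono (t : SLn)⁻¹ 1 by simpa using IsMono.inv t.2) hu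
    rw [inv_inv] at h
    rw [← rep_mul, show u * (t : SLn) = (t : SLn) * ((t : SLn)⁻¹ * u * t) by group, rep_mul, hy _ h]
  have hF0 : F ≠ ⊥ := by
    obtain ⟨y, hy, hfix⟩ := Blocks.exists_fixed_ne_zero (k := k) hU (ρ.comp (Uu K n).subtype)
    exact fun e => hy ((Submodule.mem_bot k).1 (e ▸ (show y ∈ F from fun u hu => hfix ⟨u, hu⟩)))
  obtain ⟨S, hS, hSF, hsimp⟩ := Modular.exists_simple_le hF hF0
  haveI := hsimp.nontrivial
  obtain ⟨⟨y, hy⟩, hy0⟩ := exists_ne (0 : S)
  refine ⟨y, fun e => hy0 (Subtype.ext e), hSF hy, fun t ht => ?_⟩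
  obtain ⟨c, hc⟩ := hsimp.schur (f := subRep τ S hS ⟨t, ht⟩) fun g v => by
    rw [← Module.End.mul_apply, ← map_mul, tor_comm, map_mul, Module.End.mul_apply]
  exact ⟨c, congrArg Subtype.val (LinearMap.congr_fun hc ⟨y, hy⟩)⟩

include p in
theorem card_cast_eq_zero : (Fintype.card K : k) = 0 := by
  obtain ⟨e, hp, he⟩ := FiniteField.card K p
  rw [he, Nat.cast_pow, CharP.cast_eq_zero, zero_pow e.ne_zero]

include p in
/-- An eigenvector of all simple operators. -/
theorem exists_eigen_vector [IsAlgClosed k] [FiniteDimensional k W] [Nontrivial W]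
    [Nonempty (Fin n)] (hU : IsPGroup p (Uu K n)) : ∃ v : W, v ≠ 0 ∧ FixU ρ v ∧ EigT ρ v ∧
      ∀ i i' : Fin n, (i : ℕ) + 1 = i' → ∃ c : k, As ρ i i' v = c • v := by
  classical
  obtain ⟨y, hy0, hyU, hyT⟩ := exists_fixU_eigT (ρ := ρ) hU
  have hne : (univ.filter fun m : SLn => (∃ σ, IsMono m σ) ∧ Aw ρ m y ≠ 0).Nonempty :=
    ⟨1, Finset.mem_filter.2 ⟨Finset.mem_univ _, ⟨1, isMono_one⟩, by
      rw [Aw_base ρ isMono_one, map_one]; exact hy0⟩⟩
  obtain ⟨m, hm, hmax⟩ := Finset.exists_max_image _ (fun m : SLn => Nat.card (Uw m)) hne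
  obtain ⟨-, ⟨σ, hσ⟩, hm0⟩ := Finset.mem_filter.1 hm
  obtain ⟨hvU, hvT⟩ := fixU_eigT_Aw hyU hyT m σ hσ
  refine ⟨Aw ρ m y, hm0, hvU, hvT, fun i i' hii => ?_⟩
  have hne' : i ≠ i' := by rw [Ne, Fin.ext_iff]; omega
  have hr : IsMono (sr i i' : SLn) (Equiv.swap i i') := isMono_wtv hne' one_ne_zero
  by_cases hd : σ⁻¹ i' < σ⁻¹ i
  · set m' : SLn := (sr i i')⁻¹ * m with hm'
    have hm'σ : IsMono m' (Equiv.swap i i' * σ) := by
      have := hr.inv.mul hσ; rwa [Equiv.swap_inv] at this
    have hd' : ¬ (Equiv.swap i i' * σ)⁻¹ i' < (Equiv.swap i i' * σ)⁻¹ i := by simpa using hd.le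
    have e := Aw_step ρ hii hm'σ hd' y
    rw [hm', mul_inv_cancel_left] at e
    obtain ⟨hzU, hzT⟩ := fixU_eigT_Aw hyU hyT m' _ hm'σ
    choose μ hμ using fun d : K => show ∃ c : k, d ≠ 0 → ρ (SLDefining.hd i i' d) (Aw ρ m' y) = c • Aw ρ m' y from by
      by_cases h : d = 0
      · exact ⟨0, fun h' => absurd h h'⟩
      · obtain ⟨c, hc⟩ := hzT _ (isMono_hd hne' h)
        exact ⟨c, fun _ => hc⟩
    have h2 := As_As hii (card_cast_eq_zero (p := p)) hzU μ hμ
    rw [← hm'] at e
    exact ⟨_, by rw [e]; exact h2⟩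
  · refine ⟨0, ?_⟩
    rw [zero_smul, ← Aw_step ρ hii hσ hd]
    by_contra hne2
    exact absurd (hmax _ (Finset.mem_filter.2 ⟨Finset.mem_univ _, ⟨_, hr.mul hσ⟩, hne2⟩))
      (card_step hii hr hσ hd).not_ge

theorem finrank_lowSpan_le [FiniteDimensional k W] (v : W) :
    Module.finrank k (lowSpan ρ v) ≤ Nat.card (Ul K n) := by
  haveI := Fintype.ofFinite (Ul K n)
  rw [Nat.card_eq_fintype_card]
  exact finrank_range_le_card (R := k) _

theorem mem_lowSpan_self (v : W) : v ∈ lowSpan ρ v :=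
  Submodule.subset_span ⟨1, by simp⟩

include p in
/-- **The Steinberg vector of a simple representation of dimension divisible by `#U`.** -/
theorem exists_stdVec [IsAlgClosed k] [FiniteDimensional k W] [Nontrivial (Fin n)]
    (hU : IsPGroup p (Uu K n)) (hρ : IsSimpleRep ρ)
    (hdvd : Nat.card (Ul K n) ∣ Module.finrank k W) :
    Module.finrank k W = Nat.card (Ul K n) ∧ ∃ v, StdVec ρ v := by
  classical
  haveI := hρ.nontrivial
  obtain ⟨v, hv0, hvU, hvT, hA⟩ := exists_eigen_vector (ρ := ρ) hU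
  have htop : lowSpan ρ v = ⊤ :=
    (hρ.eq_bot_or_top _ (lowSpan_invar hvU hA fun i i' hii d hd0 =>
      hvT _ (isMono_hd (by rw [Ne, Fin.ext_iff]; omega) hd0))).resolve_left fun e =>
        hv0 ((Submodule.mem_bot k).1 (e ▸ mem_lowSpan_self v))
  have hdim : Module.finrank k W = Nat.card (Ul K n) := by
    have h1 := finrank_lowSpan_le (ρ := ρ) v
    rw [htop, finrank_top] at h1
    exact le_antisymm h1 (Nat.le_of_dvd Module.finrank_pos hdvd)
  haveI := Fintype.ofFinite (Ul K n)
  have hind : LinearIndependent k fun x : Ul K n => ρ (x : SLn) v :=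
    linearIndependent_of_top_le_span_of_card_eq_finrank htop.ge
      (by rw [hdim, Nat.card_eq_fintype_card])
  choose c hc using fun (a : {a : Fin n × Fin n // (a.1 : ℕ) + 1 = a.2}) => hA a.1.1 a.1.2 a.2
  have key : ∀ i i' : Fin n, (i : ℕ) + 1 = i' →
      (∀ d : K, d ≠ 0 → ρ (hd i i' d) v = v) ∧ As ρ i i' v = -v := by
    intro i i' hii
    have hlt : i < i' := by rw [Fin.lt_def]; omega
    have hr : IsMono (sr i i' : SLn) (Equiv.swap i i') := isMono_wtv hlt.ne one_ne_zero
    obtain ⟨c, hc⟩ := hA i i' hii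
    choose μ hμ using fun d : K => show ∃ c : k, d ≠ 0 → ρ (hd i i' d) v = c • v from by
      by_cases h : d = 0
      · exact ⟨0, fun h' => absurd h h'⟩
      · obtain ⟨c, hc⟩ := hvT _ (isMono_hd hlt.ne h)
        exact ⟨c, fun _ => hc⟩
    have hc0 : c ≠ 0 := by
      intro h0
      set w0 : W := ∑ t : K, ρ (tv i' i t) v with hw0
      have hw : w0 ≠ 0 := by
        intro e
        let g : K → Ul K n := fun t => ⟨tv i' i t, tv_mem_Ul hlt t⟩
        have hginj : Function.Injective g := fun a b hab => by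
          have := congrArg (fun x : Ul K n => (x : SLn).1 i' i) hab
          simpa [g, tv_apply_self hlt.ne'] using this
        have := Fintype.linearIndependent_iff.1 (hind.comp g hginj) (fun _ => 1)
          (by simpa [g] using e) 0
        exact one_ne_zero this
      have hs : ρ (sr i i') w0 = As ρ i i' v := by
        have ha : (sr i i' : SLn).1 (Equiv.swap i i' i') i' / (sr i i' : SLn).1 (Equiv.swap i i' i) i ≠ 0 :=
          div_ne_zero (hr.apply_ne_zero i') (hr.apply_ne_zero i)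
        rw [hw0, map_sum, As_apply]
        refine Fintype.sum_equiv (Equiv.mulLeft₀ _ ha) _ _ fun t => ?_
        have e := hr.conj_tv hlt.ne' t
        rw [Equiv.swap_apply_right, Equiv.swap_apply_left] at e
        rw [show (Equiv.mulLeft₀ _ ha) t =
          (sr i i' : SLn).1 (Equiv.swap i i' i') i' / (sr i i' : SLn).1 (Equiv.swap i i' i) i * t
            from rfl, Equiv.swap_apply_right, Equiv.swap_apply_left, div_mul_eq_mul_div, ← e,
          ← rep_mul, inv_mul_cancel_right]
      rw [hc, h0, zero_smul] at hs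
      refine hw ?_
      rw [← Module.End.one_apply (R := k) w0, ← map_one ρ, ← inv_mul_cancel (sr i i'), rep_mul, hs,
        map_zero]
    have h2 := As_As hii (card_cast_eq_zero (p := p)) hvU μ hμ
    rw [hc, map_smul, hc, smul_smul, smul_smul] at h2
    have h3 : c = ∑ b ∈ univ.filter (fun b : K => b ≠ 0), μ (-b) :=
      mul_right_cancel₀ hc0 (smul_left_injective k hv0 h2)
    have hμmul : ∀ d e : K, d ≠ 0 → e ≠ 0 → μ (d * e) = μ d * μ e := by
      intro d e hd0 he
      refine smul_left_injective k hv0 ?_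
      show μ (d * e) • v = (μ d * μ e) • v
      rw [← hμ _ (mul_ne_zero hd0 he), ← hd_mul hlt.ne hd0 he, rep_mul, hμ e he, map_smul,
        hμ d hd0, smul_smul, mul_comm]
    have hμ1 : ∀ d : K, d ≠ 0 → μ d = 1 := by
      intro d hd0
      by_contra hne
      refine hc0 ?_
      rw [h3]
      have hS : ∑ b ∈ univ.filter (fun b : K => b ≠ 0), μ (-b) =
          μ d * ∑ b ∈ univ.filter (fun b : K => b ≠ 0), μ (-b) := by
        rw [Finset.mul_sum]
        refine Finset.sum_equiv (Equiv.mulLeft₀ d⁻¹ (inv_ne_zero hd0)) (fun b => ?_) fun b hb => ?_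
        · simp [hd0]
        · have hb0 : b ≠ 0 := (Finset.mem_filter.1 hb).2
          rw [show (Equiv.mulLeft₀ d⁻¹ (inv_ne_zero hd0)) b = d⁻¹ * b from rfl, ← hμmul _ _ hd0
            (neg_ne_zero.2 (mul_ne_zero (inv_ne_zero hd0) hb0))]
          rw [mul_neg, mul_inv_cancel_left₀ hd0]
      by_contra hne0
      exact hne (mul_eq_right₀ hne0 |>.1 hS.symm)
    refine ⟨fun d hd0 => by rw [hμ d hd0, hμ1 d hd0, one_smul], ?_⟩
    rw [hc, h3, Finset.sum_congr rfl fun b hb => hμ1 (-b) (neg_ne_zero.2 (Finset.mem_filter.1 hb).2),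
      Finset.filter_ne', Finset.sum_const, Finset.card_erase_of_mem (Finset.mem_univ _),
      Finset.card_univ, nsmul_eq_mul, mul_one, Nat.cast_sub Fintype.card_pos,
      card_cast_eq_zero (p := p), Nat.cast_one, zero_sub, neg_smul, one_smul]
  exact ⟨hdim, v, hv0, hvU, fun i i' hii => (key i i' hii).1, fun i i' hii => (key i i' hii).2⟩

include p in
/-- **Simple representations of dimension `#U` with a Steinberg vector are isomorphic.** -/
theorem exists_iso [Nontrivial (Fin n)] [FiniteDimensional k W] [FiniteDimensional k W']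
    {σ : Representation k (SpecialLinearGroup (Fin n) K) W'} (hρ : IsSimpleRep ρ)
    (hσ : IsSimpleRep σ) (h1 : Module.finrank k W = Nat.card (Ul K n))
    (h2 : Module.finrank k W' = Nat.card (Ul K n)) {v : W} {v' : W'} (hv : StdVec ρ v)
    (hv' : StdVec σ v') : ∃ e : W ≃ₗ[k] W', ∀ g x, e (ρ g x) = σ g (e x) := by
  let R : Representation k (SpecialLinearGroup (Fin n) K) (W × W') :=
    { toFun := fun g => (ρ g).prodMap (σ g)
      map_one' := by rw [map_one, map_one]; rfl
      map_mul' := fun a b => by rw [map_mul, map_mul]; rfl }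
  have hR : ∀ g x, R g x = (ρ g x.1, σ g x.2) := fun g x => rfl
  set S := lowSpan R (v, v') with hSdef
  have hS : IsInvar R S := by
    refine lowSpan_invar (fun u hu => ?_) (fun i i' hii => ⟨-1, ?_⟩) fun i i' hii d hd0 => ⟨1, ?_⟩
    · rw [hR, hv.fixU u hu, hv'.fixU u hu]
    · rw [As_apply, neg_one_smul, Finset.sum_congr rfl fun t _ => hR _ (v, v')]
      refine Prod.ext ?_ ?_
      · rw [Prod.fst_sum, Prod.fst_neg, ← hv.neg i i' hii, As_apply]
      · rw [Prod.snd_sum, Prod.snd_neg, ← hv'.neg i i' hii, As_apply]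
    · rw [hR, hv.fixH i i' hii d hd0, hv'.fixH i i' hii d hd0, one_smul]
  have hmem : (v, v') ∈ S := mem_lowSpan_self _
  have hle := finrank_lowSpan_le (ρ := R) (v, v')
  rw [← hSdef] at hle
  set f1 : S →ₗ[k] W := (LinearMap.fst k W W').comp S.subtype with hf1
  set f2 : S →ₗ[k] W' := (LinearMap.snd k W W').comp S.subtype with hf2
  have hs1 : Function.Surjective f1 := by
    rw [← LinearMap.range_eq_top]
    refine (hρ.eq_bot_or_top _ ?_).resolve_left fun e => hv.ne ?_
    · rintro g _ ⟨x, rfl⟩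
      exact ⟨⟨_, hS g _ x.2⟩, rfl⟩
    · exact (Submodule.mem_bot k).1 (e ▸ (⟨⟨_, hmem⟩, rfl⟩ : v ∈ LinearMap.range f1))
  have hs2 : Function.Surjective f2 := by
    rw [← LinearMap.range_eq_top]
    refine (hσ.eq_bot_or_top _ ?_).resolve_left fun e => hv'.ne ?_
    · rintro g _ ⟨x, rfl⟩
      exact ⟨⟨_, hS g _ x.2⟩, rfl⟩
    · exact (Submodule.mem_bot k).1 (e ▸ (⟨⟨_, hmem⟩, rfl⟩ : v' ∈ LinearMap.range f2))
  have hfr : ∀ (f : S →ₗ[k] W), Function.Surjective f → Module.finrank k W ≤ Module.finrank k S :=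
    fun f hf => by
      have := LinearMap.finrank_range_le f
      rwa [LinearMap.range_eq_top.2 hf, finrank_top] at this
  have hd1 : Module.finrank k S = Module.finrank k W := le_antisymm (h1 ▸ hle) (hfr f1 hs1)
  have hd2 : Module.finrank k S = Module.finrank k W' := by rw [hd1, h1, h2]
  have hi1 : Function.Injective f1 :=
    (LinearMap.injective_iff_surjective_of_finrank_eq_finrank hd1).2 hs1
  have hi2 : Function.Injective f2 :=
    (LinearMap.injective_iff_surjective_of_finrank_eq_finrank hd2).2 hs2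
  refine ⟨(LinearEquiv.ofBijective f1 ⟨hi1, hs1⟩).symm.trans (LinearEquiv.ofBijective f2 ⟨hi2, hs2⟩),
    fun g x => ?_⟩
  obtain ⟨y, rfl⟩ := hs1 x
  have e1 : ρ g (f1 y) = f1 ⟨R g y, hS g _ y.2⟩ := rfl
  have e2 : ∀ z, (LinearEquiv.ofBijective f1 ⟨hi1, hs1⟩).symm (f1 z) = z := fun z =>
    LinearEquiv.ofBijective_symm_apply_apply f1 z
  rw [LinearEquiv.trans_apply, LinearEquiv.trans_apply, e1, e2, e2]
  rfl

end CfsgLib.SLDefining
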